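import Groth.Agent.ExtPowSt.Alg
import Groth.Agent.Ref1.Sp
import Groth.Agent.QCoh.FiniteType
import Groth.Prelude.Def_ExtPow2
import Mathlib.LinearAlgebra.ExteriorPower.Basis

/-!
# Stalks of exterior powers of quasi-coherent modules
-/

universe u

open CategoryTheory AlgebraicGeometry Opposite TopologicalSpace

noncomputable section

namespace Groth.Agent.ExtPowSt

open Groth.Agent.HomShQC Groth.Agent.PullStalk.Sky Groth.Agent.QCoh Groth.Agent.Props.QStalk Groth.Agent.Ref1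

variable {X : Scheme.{u}}

/-- The germ as a semilinear map. -/
def germS (E : X.Modules) {U : X.Opens} (x : X) (hx : x ∈ U) :
    (E.val.obj (op U)) →ₛₗ[(X.presheaf.germ U x hx).hom] E.presheaf.stalk x where
  toFun m := germM E U x hx m
  map_add' a b := map_add (E.presheaf.germ U x hx).hom a b
  map_smul' r m := germM_smul E U x hx r m

/-- The restriction as a semilinear map. -/
def resS (E : X.Modules) {U V : X.Opens} (h : V ≤ U) :
    (E.val.obj (op U)) →ₛₗ[(rres (X := X) h).hom] (E.val.obj (op V)) where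
  toFun m := res E h m
  map_add' a b := map_add (res E h).hom a b
  map_smul' r m := res_smul E h r m

lemma germS_resS (E : X.Modules) {U V : X.Opens} (h : V ≤ U) (x : X) (hx : x ∈ V) (m : E.val.obj (op U)) :
    germS E x hx (resS E h m) = germS E x (h hx) m :=
  germM_res E h x hx m

/-- A family of identifications of affine sections with exterior powers. -/
abbrev Sys (i : ℕ) (E L : X.Modules) :=
  {φ : ∀ U : X.affineOpens, (L.val.obj (op U.1)) ≃ₗ[Γ(X, U.1)] ↥(⋀[Γ(X, U.1)]^i (E.val.obj (op U.1))) //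
    ∀ (U V : X.affineOpens) (h : V.1 ≤ U.1) (e : Fin i → E.val.obj (op U.1)),
      L.val.map (homOfLE h).op ((φ U).symm (exteriorPower.ιMulti _ i e)) =
        (φ V).symm (exteriorPower.ιMulti _ i (fun j => E.val.map (homOfLE h).op (e j)))}

variable {i : ℕ} {E L : X.Modules} (Φ : Sys i E L)

/-- The identification commutes with restriction. -/
lemma φ_res {U V : X.affineOpens} (h : V.1 ≤ U.1) (s : L.val.obj (op U.1)) :
    Φ.1 V (resS L h s) = extσ (rres h).hom i (resS E h) (Φ.1 U s) := by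
  obtain ⟨z, rfl⟩ := (Φ.1 U).symm.surjective s
  rw [LinearEquiv.apply_symm_apply]
  have : ((Φ.1 V).toLinearMap.comp ((resS L h).comp (Φ.1 U).symm.toLinearMap)) = extσ (rres h).hom i (resS E h) :=
    ext_ι i fun m => by
      show Φ.1 V (L.val.map (homOfLE h).op ((Φ.1 U).symm (exteriorPower.ιMulti _ i m))) = _
      rw [Φ.2 U V h m, LinearEquiv.apply_symm_apply, extσ_ιMulti]
      rfl
  exact LinearMap.congr_fun this z

lemma extσ_res {U V : X.Opens} (h : V ≤ U) (x : X) (hx : x ∈ V)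
    (z : ↥(⋀[Γ(X, U)]^i (E.val.obj (op U)))) :
    extσ (X.presheaf.germ V x hx).hom i (germS E x hx) (extσ (rres h).hom i (resS E h) z) =
      extσ (X.presheaf.germ U x (h hx)).hom i (germS E x (h hx)) z := by
  have hz : z ∈ Submodule.span Γ(X, U) (Set.range (exteriorPower.ιMulti Γ(X, U) i (M := E.val.obj (op U)))) := by
    rw [exteriorPower.ιMulti_span]; trivial
  induction hz using Submodule.span_induction with
  | mem x hx' =>
    obtain ⟨m, rfl⟩ := hx'
    rw [extσ_ιMulti, extσ_ιMulti, extσ_ιMulti]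
    congr 1
    funext j
    exact germS_resS E h x hx (m j)
  | zero => rw [map_zero, map_zero, map_zero]
  | add a b _ _ ha hb => rw [map_add, map_add, map_add, ha, hb]
  | smul a w _ hw =>
    rw [LinearMap.map_smulₛₗ, LinearMap.map_smulₛₗ, LinearMap.map_smulₛₗ, hw]
    congr 1
    exact X.presheaf.germ_res_apply (homOfLE h) x hx a

/-- The germ of a section in the exterior power of the stalk. -/
def germExt (U : X.affineOpens) (x : X) (hx : x ∈ U.1) (s : L.val.obj (op U.1)) :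
    ↥(⋀[X.presheaf.stalk x]^i (E.presheaf.stalk x)) :=
  extσ (X.presheaf.germ U.1 x hx).hom i (germS E x hx) (Φ.1 U s)

lemma germExt_res {U V : X.affineOpens} (h : V.1 ≤ U.1) (x : X) (hx : x ∈ V.1) (s : L.val.obj (op U.1)) :
    germExt Φ V x hx (resS L h s) = germExt Φ U x (h hx) s := by
  rw [germExt, φ_res, extσ_res]
  rfl

lemma germExt_congr {U V : X.affineOpens} (x : X) (hxU : x ∈ U.1) (hxV : x ∈ V.1)
    (s : L.val.obj (op U.1)) (t : L.val.obj (op V.1))
    (h : germS L x hxU s = germS L x hxV t) : germExt Φ U x hxU s = germExt Φ V x hxV t := by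
  obtain ⟨W, hxW, i₁, i₂, e⟩ := L.presheaf.germ_eq x hxU hxV _ _ h
  obtain ⟨_, ⟨W', hW', rfl⟩, hxW', hle⟩ := X.isBasis_affineOpens.exists_subset_of_mem_open (a := x) hxW W.2
  have h1 : (W' : X.Opens) ≤ U.1 := le_trans hle i₁.le
  have h2 : (W' : X.Opens) ≤ V.1 := le_trans hle i₂.le
  rw [← germExt_res Φ (V := ⟨W', hW'⟩) h1 x hxW' s, ← germExt_res Φ (V := ⟨W', hW'⟩) h2 x hxW' t]
  congr 1
  show res L h1 s = res L h2 t
  rw [← res_res L i₁.le hle, ← res_res L i₂.le hle]
  exact congrArg (res L hle) e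

lemma exists_rep (x : X) (v : L.presheaf.stalk x) :
    ∃ (U : X.affineOpens) (hx : x ∈ U.1) (s : L.val.obj (op U.1)), germS L x hx s = v := by
  obtain ⟨W, hW, m, rfl⟩ := exists_germM_eq L x v
  obtain ⟨_, ⟨W', hW', rfl⟩, hxW', hle⟩ := X.isBasis_affineOpens.exists_subset_of_mem_open (a := x) hW W.2
  exact ⟨⟨W', hW'⟩, hxW', resS L hle m, germS_resS L hle x hxW' m⟩

lemma exists_rep₂ (x : X) (v w : L.presheaf.stalk x) :
    ∃ (U : X.affineOpens) (hx : x ∈ U.1) (s t : L.val.obj (op U.1)), germS L x hx s = v ∧ germS L x hx t = w := by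
  obtain ⟨U, hU, s, rfl⟩ := exists_rep x v
  obtain ⟨V, hV, t, rfl⟩ := exists_rep x w
  obtain ⟨_, ⟨W', hW', rfl⟩, hxW', hle⟩ :=
    X.isBasis_affineOpens.exists_subset_of_mem_open (a := x) (show x ∈ U.1 ⊓ V.1 from ⟨hU, hV⟩) (U.1 ⊓ V.1).2
  exact ⟨⟨W', hW'⟩, hxW', resS L (le_trans hle inf_le_left) s, resS L (le_trans hle inf_le_right) t,
    germS_resS L _ x hxW' s, germS_resS L _ x hxW' t⟩

/-- The comparison function on stalks. -/
def stalkFun (x : X) (v : L.presheaf.stalk x) : ↥(⋀[X.presheaf.stalk x]^i (E.presheaf.stalk x)) :=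
  germExt Φ (exists_rep x v).choose x (exists_rep x v).choose_spec.choose
    (exists_rep x v).choose_spec.choose_spec.choose

lemma stalkFun_germ (U : X.affineOpens) (x : X) (hx : x ∈ U.1) (s : L.val.obj (op U.1)) :
    stalkFun Φ x (germS L x hx s) = germExt Φ U x hx s :=
  germExt_congr Φ x _ hx _ _ (exists_rep x (germS L x hx s)).choose_spec.choose_spec.choose_spec

/-- The comparison map on stalks. -/
def stalkMap (x : X) : L.presheaf.stalk x →ₗ[X.presheaf.stalk x] ↥(⋀[X.presheaf.stalk x]^i (E.presheaf.stalk x)) where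
  toFun := stalkFun Φ x
  map_add' v w := by
    obtain ⟨U, hx, s, t, rfl, rfl⟩ := exists_rep₂ x v w
    rw [← map_add, stalkFun_germ, stalkFun_germ, stalkFun_germ, germExt, map_add, map_add]
    rfl
  map_smul' a v := by
    obtain ⟨W, hW, r, rfl⟩ := X.presheaf.exists_germ_eq (x := x) a
    obtain ⟨U, hU, s, rfl⟩ := exists_rep x v
    obtain ⟨_, ⟨W', hW', rfl⟩, hxW', hle⟩ :=
      X.isBasis_affineOpens.exists_subset_of_mem_open (a := x) (show x ∈ U.1 ⊓ W from ⟨hU, hW⟩) (U.1 ⊓ W).2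
    rw [← germS_resS L (le_trans hle inf_le_left) x hxW' s, RingHom.id_apply,
      ← X.presheaf.germ_res_apply (homOfLE (le_trans hle inf_le_right)) x hxW' r, ← LinearMap.map_smulₛₗ,
      stalkFun_germ Φ ⟨W', hW'⟩, stalkFun_germ Φ ⟨W', hW'⟩, germExt, LinearEquiv.map_smul, LinearMap.map_smulₛₗ]
    rfl

lemma stalkMap_germ (U : X.affineOpens) (x : X) (hx : x ∈ U.1) (s : L.val.obj (op U.1)) :
    stalkMap Φ x (germS L x hx s) = germExt Φ U x hx s :=
  stalkFun_germ Φ U x hx s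

variable [E.IsQuasicoherent]

omit Φ in
/-- Exterior powers of sections localize to exterior powers of stalks. -/
lemma germ_localization (U : X.affineOpens) (x : X) (hx : x ∈ U.1) :
    (∀ w : ↥(⋀[X.presheaf.stalk x]^i (E.presheaf.stalk x)),
      ∃ c ∈ (U.2.primeIdealOf ⟨x, hx⟩).asIdeal.primeCompl, ∃ z,
        extσ (X.presheaf.germ U.1 x hx).hom i (germS E x hx) z = X.presheaf.germ U.1 x hx c • w) ∧
    ∀ z, extσ (X.presheaf.germ U.1 x hx).hom i (germS E x hx) z = 0 →
      ∃ c ∈ (U.2.primeIdealOf ⟨x, hx⟩).asIdeal.primeCompl, c • z = 0 := by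
  letI := moduleSections E hx
  haveI := isLocalizedModule_germLin E hx U.2
  set S := (U.2.primeIdealOf ⟨x, hx⟩).asIdeal.primeCompl
  refine extσ_localization _ i S (germS E x hx) ?_ (fun n => ?_) (fun m hm => ?_)
  · exact U.2.isLocalization_stalk ⟨x, hx⟩
  · obtain ⟨⟨m, c⟩, hmc⟩ := IsLocalizedModule.surj S (germLin E hx) n
    exact ⟨c.1, c.2, m, hmc.symm⟩
  · obtain ⟨c, hc⟩ := (IsLocalizedModule.eq_zero_iff S (germLin E hx)).mp (hm : germLin E hx m = 0)
    exact ⟨c.1, c.2, hc⟩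

lemma isUnit_germ {U : X.Opens} (hU : IsAffineOpen U) {x : X} (hx : x ∈ U) {c : Γ(X, U)}
    (hc : c ∈ (hU.primeIdealOf ⟨x, hx⟩).asIdeal.primeCompl) : IsUnit (X.presheaf.germ U x hx c) := by
  letI := X.presheaf.algebra_section_stalk ⟨x, hx⟩
  haveI : IsLocalization.AtPrime (X.presheaf.stalk x) (hU.primeIdealOf ⟨x, hx⟩).asIdeal :=
    hU.isLocalization_stalk ⟨x, hx⟩
  exact IsLocalization.map_units (X.presheaf.stalk x) (⟨c, hc⟩ : (hU.primeIdealOf ⟨x, hx⟩).asIdeal.primeCompl)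

theorem bijective_stalkMap (x : X) : Function.Bijective (stalkMap Φ x) := by
  constructor
  · rw [injective_iff_map_eq_zero]
    intro v hv
    obtain ⟨U, hx, s, rfl⟩ := exists_rep x v
    rw [stalkMap_germ, germExt] at hv
    obtain ⟨c, hc, h0⟩ := (germ_localization (i := i) U x hx).2 _ hv
    rw [← LinearEquiv.map_smul, LinearEquiv.map_eq_zero_iff] at h0
    have h1 := congrArg (germS L x hx) h0
    rw [LinearMap.map_smulₛₗ, map_zero] at h1
    exact (isUnit_germ U.2 hx hc).smul_eq_zero.mp h1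
  · intro w
    obtain ⟨_, ⟨U, hU, rfl⟩, hxU, -⟩ :=
      X.isBasis_affineOpens.exists_subset_of_mem_open (Set.mem_univ x) isOpen_univ
    obtain ⟨c, hc, z, hz⟩ := (germ_localization (i := i) (E := E) ⟨U, hU⟩ x hxU).1 w
    obtain ⟨u, hu⟩ := isUnit_germ hU hxU hc
    refine ⟨(u⁻¹ : (X.presheaf.stalk x)ˣ).1 • germS L x hxU ((Φ.1 ⟨U, hU⟩).symm z), ?_⟩
    rw [map_smul, stalkMap_germ Φ ⟨U, hU⟩, germExt, LinearEquiv.apply_symm_apply, hz, ← hu, smul_smul,
      Units.inv_mul, one_smul]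

/-- The stalk of an exterior power. -/
def stalkEquiv (x : X) : L.presheaf.stalk x ≃ₗ[X.presheaf.stalk x] ↥(⋀[X.presheaf.stalk x]^i (E.presheaf.stalk x)) :=
  LinearEquiv.ofBijective (stalkMap Φ x) (bijective_stalkMap Φ x)

lemma stalkEquiv_germ (U : X.affineOpens) (x : X) (hx : x ∈ U.1) (s : L.val.obj (op U.1)) :
    stalkEquiv Φ x (germS L x hx s) = germExt Φ U x hx s :=
  stalkMap_germ Φ U x hx s

/-- Specialization as a semilinear map. -/
def spS (M : X.Modules) {y x : X} (h : y ⤳ x) : M.presheaf.stalk x →ₛₗ[spR h] M.presheaf.stalk y where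
  toFun := sp M h
  map_add' := map_add _
  map_smul' := sp_smul M h

lemma stalkEquiv_sp {y x : X} (h : y ⤳ x) (v : L.presheaf.stalk x) :
    stalkEquiv Φ y (sp L h v) = extσ (spR h) i (spS E h) (stalkEquiv Φ x v) := by
  obtain ⟨U, hx, s, rfl⟩ := exists_rep x v
  rw [show sp L h (germS L x hx s) = germS L y (h.mem_open U.1.2 hx) s from sp_germ L h hx s,
    stalkEquiv_germ, stalkEquiv_germ, germExt, germExt]
  generalize Φ.1 U s = z
  have hz : z ∈ Submodule.span Γ(X, U.1) (Set.range (exteriorPower.ιMulti Γ(X, U.1) i (M := E.val.obj (op U.1)))) := by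
    rw [exteriorPower.ιMulti_span]; trivial
  induction hz using Submodule.span_induction with
  | mem w hw =>
    obtain ⟨m, rfl⟩ := hw
    rw [extσ_ιMulti, extσ_ιMulti, extσ_ιMulti]
    congr 1
    funext j
    exact (sp_germ E h hx (m j)).symm
  | zero => rw [map_zero, map_zero, map_zero]
  | add a b _ _ ha hb => rw [map_add, map_add, map_add, ha, hb]
  | smul a w _ hw =>
    rw [LinearMap.map_smulₛₗ, LinearMap.map_smulₛₗ, LinearMap.map_smulₛₗ, hw]
    congr 1
    exact (spR_germ h hx a).symm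

include Φ in
/-- An exterior power of a quasi-coherent module is quasi-coherent. -/
theorem isQuasicoherent : L.IsQuasicoherent := by
  refine (isQuasicoherent_iff_forall_isAffineOpen L).mpr fun U hU f => ?_
  have hle := X.basicOpen_le f
  have hloc := extσ_localization (rres hle).hom i (Submonoid.powers f) (resS E hle)
    (hU.isLocalization_basicOpen f)
    (fun n => by
      obtain ⟨k, t, ht⟩ := (isLocalizingAt E hU f).surj n
      exact ⟨f ^ k, ⟨k, rfl⟩, t, by rw [map_pow]; exact ht⟩)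
    (fun m hm => by
      obtain ⟨k, hk⟩ := (isLocalizingAt E hU f).eq_zero m hm
      exact ⟨f ^ k, ⟨k, rfl⟩, hk⟩)
  refine ⟨fun s => ?_, fun t ht => ?_⟩
  · obtain ⟨_, ⟨k, rfl⟩, z, hz⟩ := hloc.1 (Φ.1 ⟨X.basicOpen f, hU.basicOpen f⟩ s)
    refine ⟨k, (Φ.1 ⟨U, hU⟩).symm z, (Φ.1 ⟨X.basicOpen f, hU.basicOpen f⟩).injective ?_⟩
    refine (φ_res Φ (U := ⟨U, hU⟩) (V := ⟨X.basicOpen f, hU.basicOpen f⟩) hle _).trans ?_
    rw [LinearEquiv.apply_symm_apply, hz]
    refine Eq.trans ?_ (LinearEquiv.map_smul (Φ.1 ⟨X.basicOpen f, hU.basicOpen f⟩) _ _).symm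
    congr 1
    exact map_pow _ f k
  · obtain ⟨_, ⟨k, rfl⟩, hk⟩ := hloc.2 (Φ.1 ⟨U, hU⟩ t) (by
      rw [← φ_res Φ (U := ⟨U, hU⟩) (V := ⟨X.basicOpen f, hU.basicOpen f⟩) hle t]
      rw [show resS L hle t = 0 from ht, map_zero])
    refine ⟨k, (Φ.1 ⟨U, hU⟩).injective ?_⟩
    exact ((LinearEquiv.map_smul (Φ.1 ⟨U, hU⟩) _ _).trans hk).trans (Φ.1 ⟨U, hU⟩).map_zero.symm

omit [E.IsQuasicoherent] in
include Φ in
/-- An exterior power of a coherent module is coherent. -/
theorem isCoh (hE : Coh.IsCoh E) : Coh.IsCoh L := by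
  haveI := hE.1
  haveI := isQuasicoherent Φ
  refine ⟨‹_›, (isFiniteType_iff L).mpr fun U hU => ?_⟩
  haveI : Module.Finite Γ(X, U) (E.val.obj (op U)) := (isFiniteType_iff E).mp hE.2 U hU
  haveI : Module.Finite Γ(X, U) ↥(⋀[Γ(X, U)]^i (E.val.obj (op U))) := inferInstance
  exact Module.Finite.equiv (Φ.1 ⟨U, hU⟩).symm

end Groth.Agent.ExtPowSt

end
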