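import Groth.Agent.ExtPowSt.Stalk
import Mathlib.Topology.Sheaves.SheafCondition.UniqueGluing

/-!
# Existence of exterior powers of quasi-coherent modules

The exterior power is the sheaf of families of elements of the exterior powers of the stalks which
locally come from the exterior powers of sections over affine opens.
-/

universe u

open CategoryTheory AlgebraicGeometry Opposite TopologicalSpace

noncomputable section

namespace Groth.Agent.ExtPowSt.Exists

open Groth.Agent.PullStalk.Sky Groth.Agent.QCoh Groth.Agent.Props.QStalk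

variable {X : Scheme.{u}} (i : ℕ) (E : X.Modules)

/-- The exterior power of a stalk. -/
abbrev Lam (x : X) : Type u := ↥(⋀[X.presheaf.stalk x]^i (E.presheaf.stalk x))

/-- Families over an open. -/
abbrev Fam (U : X.Opens) : Type u := ∀ x : U, Lam i E x.1

instance famModule (U : X.Opens) : Module Γ(X, U) (Fam i E U) :=
  letI : ∀ x : U, Module Γ(X, U) (Lam i E x.1) := fun x =>
    Module.compHom _ (X.presheaf.germ U x.1 x.2).hom
  inferInstanceAs (Module Γ(X, U) (∀ x : U, Lam i E x.1))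

theorem famModule_smul {U : X.Opens} (r : Γ(X, U)) (s : Fam i E U) (x : U) :
    (r • s) x = X.presheaf.germ U x.1 x.2 r • s x := rfl

/-- The germ of a wedge of sections. -/
def gam (W : X.Opens) (y : X) (hy : y ∈ W) :
    ↥(⋀[Γ(X, W)]^i (E.val.obj (op W))) →ₛₗ[(X.presheaf.germ W y hy).hom] Lam i E y :=
  extσ _ i (germS E y hy)

theorem gam_res {U V : X.Opens} (h : V ≤ U) (y : X) (hy : y ∈ V) (z : ↥(⋀[Γ(X, U)]^i (E.val.obj (op U)))) :
    gam i E V y hy (extσ (rres h).hom i (resS E h) z) = gam i E U y (h hy) z :=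
  extσ_res h y hy z

/-- Families locally coming from wedges of sections. -/
def IsSec (U : X.Opens) (s : Fam i E U) : Prop :=
  ∀ x : U, ∃ (W : X.affineOpens) (hW : W.1 ≤ U) (z : ↥(⋀[Γ(X, W.1)]^i (E.val.obj (op W.1)))),
    x.1 ∈ W.1 ∧ ∀ y (hy : y ∈ W.1), s ⟨y, hW hy⟩ = gam i E W.1 y hy z

variable {i E}

theorem IsSec.exists_le {U : X.Opens} {s : Fam i E U} (h : IsSec i E U s) (x : U) (O : X.Opens)
    (hx : x.1 ∈ O) : ∃ (W : X.affineOpens) (hW : W.1 ≤ U) (z : ↥(⋀[Γ(X, W.1)]^i (E.val.obj (op W.1)))),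
      W.1 ≤ O ∧ x.1 ∈ W.1 ∧ ∀ y (hy : y ∈ W.1), s ⟨y, hW hy⟩ = gam i E W.1 y hy z := by
  obtain ⟨W, hW, z, hxW, hz⟩ := h x
  obtain ⟨_, ⟨W', hW', rfl⟩, hxW', hle⟩ :=
    X.isBasis_affineOpens.exists_subset_of_mem_open (a := x.1) (show x.1 ∈ W.1 ⊓ O from ⟨hxW, hx⟩) (W.1 ⊓ O).2
  have h1 : W' ≤ W.1 := le_trans hle inf_le_left
  refine ⟨⟨W', hW'⟩, h1.trans hW, extσ (rres h1).hom i (resS E h1) z, le_trans hle inf_le_right, hxW',
    fun y hy => ?_⟩
  rw [gam_res]
  exact hz y (h1 hy)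

variable (i E) in
/-- The sections of the exterior power. -/
def sec (U : X.Opens) : Submodule Γ(X, U) (Fam i E U) where
  carrier := {s | IsSec i E U s}
  zero_mem' x := by
    obtain ⟨_, ⟨W', hW', rfl⟩, hxW', hle⟩ :=
      X.isBasis_affineOpens.exists_subset_of_mem_open (a := x.1) x.2 U.2
    exact ⟨⟨W', hW'⟩, hle, 0, hxW', fun y hy => (map_zero (gam i E W' y hy)).symm⟩
  add_mem' {a b} ha hb x := by
    obtain ⟨W₁, hW₁, z₁, hx₁, h₁⟩ := ha x
    obtain ⟨W, hW, z₂, hle, hx₂, h₂⟩ := hb.exists_le x W₁.1 hx₁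
    refine ⟨W, hW, extσ (rres hle).hom i (resS E hle) z₁ + z₂, hx₂, fun y hy => ?_⟩
    rw [map_add, gam_res, ← h₁ y (hle hy), ← h₂ y hy]
    rfl
  smul_mem' r {s} hs x := by
    obtain ⟨W, hW, z, hx, h⟩ := hs x
    refine ⟨W, hW, rres hW r • z, hx, fun y hy => ?_⟩
    rw [LinearMap.map_smulₛₗ, famModule_smul, h y hy]
    congr 1
    exact (X.presheaf.germ_res_apply (homOfLE hW) y hy r).symm

variable (i E) in
/-- The presheaf of sections. -/
def abPre : TopCat.Presheaf Ab.{u} X where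
  obj U := AddCommGrpCat.of (sec i E U.unop)
  map {U V} f := AddCommGrpCat.ofHom
    { toFun := fun s => ⟨fun x => s.1 ⟨x.1, leOfHom f.unop x.2⟩, fun x => by
        obtain ⟨W, hW, z, hle, hx, h⟩ := IsSec.exists_le s.2 ⟨x.1, leOfHom f.unop x.2⟩ V.unop x.2
        exact ⟨W, hle, z, hx, fun y hy => h y hy⟩⟩
      map_zero' := rfl
      map_add' := fun _ _ => rfl }

instance abModule (U : X.Opensᵒᵖ) : Module (X.ringCatSheaf.obj.obj U) ((abPre i E).obj U) :=
  inferInstanceAs (Module Γ(X, U.unop) (sec i E U.unop))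

theorem abPre_isSheaf : TopCat.Presheaf.IsSheaf (abPre i E) := by
  rw [TopCat.Presheaf.isSheaf_iff_isSheafUniqueGluing]
  intro ι U sf hsf
  classical
  have hex : ∀ x : ↥(iSup U), ∃ j, x.1 ∈ U j := fun x => Opens.mem_iSup.mp x.2
  let v : Fam i E (iSup U) := fun x => (sf (hex x).choose).1 ⟨x.1, (hex x).choose_spec⟩
  have hv : ∀ j y (hy : y ∈ U j), v ⟨y, Opens.mem_iSup.mpr ⟨j, hy⟩⟩ = (sf j).1 ⟨y, hy⟩ := fun j y hy =>
    congrFun (congrArg Subtype.val (hsf (hex ⟨y, Opens.mem_iSup.mpr ⟨j, hy⟩⟩).choose j))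
      ⟨y, ⟨(hex ⟨y, Opens.mem_iSup.mpr ⟨j, hy⟩⟩).choose_spec, hy⟩⟩
  refine ⟨⟨v, fun x => ?_⟩, fun j => ?_, fun g hg => ?_⟩
  · obtain ⟨W, hW, z, hx, h⟩ := (sf (hex x).choose).2 ⟨x.1, (hex x).choose_spec⟩
    exact ⟨W, hW.trans (le_iSup U _), z, hx, fun y hy => (hv _ y (hW hy)).trans (h y hy)⟩
  · refine Subtype.ext (funext fun x => ?_)
    exact hv j x.1 x.2
  · refine Subtype.ext (funext fun x => ?_)
    exact congrFun (congrArg Subtype.val (hg (hex x).choose)) ⟨x.1, (hex x).choose_spec⟩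

variable (i E) in
/-- The exterior power. -/
def obj : X.Modules :=
  ⟨PresheafOfModules.ofPresheaf (R := X.ringCatSheaf.obj) (abPre i E)
    (fun {U V} f r s => Subtype.ext (funext fun x => by
      exact congrArg (fun c : X.presheaf.stalk x.1 => c • s.1 ⟨x.1, leOfHom f.unop x.2⟩)
        (X.presheaf.germ_res_apply f.unop x.1 x.2 r).symm)),
    abPre_isSheaf⟩

variable (i E) in
/-- Wedges of sections over an affine open as sections of the exterior power. -/
def toSec (U : X.affineOpens) : ↥(⋀[Γ(X, U.1)]^i (E.val.obj (op U.1))) →ₗ[Γ(X, U.1)] sec i E U.1 where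
  toFun z := ⟨fun x => gam i E U.1 x.1 x.2 z, fun x => ⟨U, le_rfl, z, x.2, fun y hy => rfl⟩⟩
  map_add' a b := Subtype.ext (funext fun x => map_add (gam i E U.1 x.1 x.2) a b)
  map_smul' r a := Subtype.ext (funext fun x => LinearMap.map_smulₛₗ (gam i E U.1 x.1 x.2) r a)

theorem toSec_apply (U : X.affineOpens) (z : ↥(⋀[Γ(X, U.1)]^i (E.val.obj (op U.1)))) (x : U.1) :
    (toSec i E U z).1 x = gam i E U.1 x.1 x.2 z := rfl

/-- An ideal of an affine open with an element invertible at every point is everything. -/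
theorem eq_top_of_forall {U : X.affineOpens} (J : Ideal Γ(X, U.1))
    (h : ∀ x (hx : x ∈ U.1), ∃ a ∈ J, a ∈ (U.2.primeIdealOf ⟨x, hx⟩).asIdeal.primeCompl) : J = ⊤ := by
  by_contra hJ
  obtain ⟨m, hm, hle⟩ := J.exists_le_maximal hJ
  let p : Spec Γ(X, U.1) := (⟨m, hm.isPrime⟩ : PrimeSpectrum Γ(X, U.1))
  have hx : U.2.fromSpec p ∈ U.1 := by
    have := Set.mem_range_self (f := U.2.fromSpec) p
    rw [U.2.range_fromSpec] at this
    exact this
  haveI := U.2.isOpenImmersion_fromSpec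
  have hp : U.2.primeIdealOf ⟨U.2.fromSpec p, hx⟩ = p :=
    U.2.fromSpec.isOpenEmbedding.injective (U.2.fromSpec_primeIdealOf _)
  obtain ⟨a, haJ, ha⟩ := h _ hx
  exact ha (hp.symm ▸ hle haJ)

theorem mem_primeCompl {U : X.affineOpens} (g : Γ(X, U.1)) {x : X} (hx : x ∈ U.1) (hg : x ∈ X.basicOpen g) :
    g ∈ (U.2.primeIdealOf ⟨x, hx⟩).asIdeal.primeCompl := by
  letI := X.presheaf.algebra_section_stalk ⟨x, hx⟩
  haveI : IsLocalization.AtPrime (X.presheaf.stalk x) (U.2.primeIdealOf ⟨x, hx⟩).asIdeal :=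
    U.2.isLocalization_stalk ⟨x, hx⟩
  exact (IsLocalization.AtPrime.isUnit_to_map_iff (X.presheaf.stalk x)
    (U.2.primeIdealOf ⟨x, hx⟩).asIdeal g).1 ((X.mem_basicOpen g x hx).mp hg)

variable [E.IsQuasicoherent]

theorem toSec_injective (U : X.affineOpens) : Function.Injective (toSec i E U) := by
  rw [injective_iff_map_eq_zero]
  intro z hz
  have hJ : LinearMap.ker (LinearMap.toSpanSingleton Γ(X, U.1) _ z) = ⊤ := eq_top_of_forall _ fun x hx => by
    obtain ⟨c, hc, h⟩ := (germ_localization (i := i) (E := E) U x hx).2 z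
      (congrFun (congrArg Subtype.val hz) ⟨x, hx⟩)
    exact ⟨c, h, hc⟩
  exact (one_smul Γ(X, U.1) z).symm.trans (LinearMap.mem_ker.1 (hJ ▸ Submodule.mem_top : (1 : Γ(X, U.1)) ∈ _))

omit [E.IsQuasicoherent] in
theorem toSec_res {U V : X.affineOpens} (h : V.1 ≤ U.1) (z : ↥(⋀[Γ(X, U.1)]^i (E.val.obj (op U.1))))
    (y : X) (hy : y ∈ V.1) :
    (toSec i E V (extσ (rres h).hom i (resS E h) z)).1 ⟨y, hy⟩ = (toSec i E U z).1 ⟨y, h hy⟩ :=
  gam_res i E h y hy z

theorem exists_localization_res (U : X.affineOpens) (g : Γ(X, U.1)) :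
    (∀ w, ∃ n : ℕ, ∃ z, extσ (rres (X.basicOpen_le g)).hom i (resS E (X.basicOpen_le g)) z =
        rres (X.basicOpen_le g) (g ^ n) • w) ∧
      ∀ z, extσ (rres (X.basicOpen_le g)).hom i (resS E (X.basicOpen_le g)) z = 0 → ∃ n : ℕ, g ^ n • z = 0 := by
  have hle := X.basicOpen_le g
  have hloc := extσ_localization (rres hle).hom i (Submonoid.powers g) (resS E hle)
    (U.2.isLocalization_basicOpen g)
    (fun n => by
      obtain ⟨k, t, ht⟩ := (isLocalizingAt E U.2 g).surj n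
      exact ⟨g ^ k, ⟨k, rfl⟩, t, by rw [map_pow]; exact ht⟩)
    (fun m hm => by
      obtain ⟨k, hk⟩ := (isLocalizingAt E U.2 g).eq_zero m hm
      exact ⟨g ^ k, ⟨k, rfl⟩, hk⟩)
  refine ⟨fun w => ?_, fun z hz => ?_⟩
  · obtain ⟨_, ⟨k, rfl⟩, z, hz⟩ := hloc.1 w
    exact ⟨k, z, hz⟩
  · obtain ⟨_, ⟨k, rfl⟩, hk⟩ := hloc.2 z hz
    exact ⟨k, hk⟩

/-- A section vanishing on a principal open is killed by a power. -/
theorem exists_pow_smul_eq_zero (U : X.affineOpens) (g : Γ(X, U.1)) (s : sec i E U.1)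
    (hs : ∀ y (hy : y ∈ U.1), y ∈ X.basicOpen g → s.1 ⟨y, hy⟩ = 0) : ∃ N : ℕ, g ^ N • s = 0 := by
  classical
  have hloc : ∀ x : U.1, ∃ (W : X.Opens) (n : ℕ), x.1 ∈ W ∧ ∀ y (hy : y ∈ U.1), y ∈ W →
      X.presheaf.germ U.1 y hy (g ^ n) • s.1 ⟨y, hy⟩ = 0 := by
    intro x
    obtain ⟨W, hW, z, hx, h⟩ := s.2 x
    let g' := rres hW g
    have hD : extσ (rres (X.basicOpen_le g')).hom i (resS E (X.basicOpen_le g')) z = 0 := by
      refine toSec_injective ⟨X.basicOpen g', W.2.basicOpen g'⟩ ?_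
      rw [map_zero]
      refine Subtype.ext (funext fun y => ?_)
      have hyW : y.1 ∈ W.1 := X.basicOpen_le g' y.2
      refine (gam_res i E (X.basicOpen_le g') y.1 y.2 z).trans ((h y.1 hyW).symm.trans (hs _ _ ?_))
      exact (X.basicOpen_res g (homOfLE hW).op).le y.2 |>.2
    obtain ⟨n, hn⟩ := (exists_localization_res W g').2 z hD
    refine ⟨W.1, n, hx, fun y hyU hy => ?_⟩
    rw [show s.1 ⟨y, hyU⟩ = gam i E W.1 y hy z from h y hy]
    have h2 := congrArg (gam i E W.1 y hy) hn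
    rw [LinearMap.map_smulₛₗ, map_zero] at h2
    refine Eq.trans ?_ h2
    congr 1
    rw [← map_pow]
    exact (X.presheaf.germ_res_apply (homOfLE hW) y hy (g ^ n)).symm
  choose W n hxW hW using hloc
  obtain ⟨T, hT⟩ := U.2.isCompact.elim_finite_subcover (fun x : U.1 => (W x : Set X)) (fun x => (W x).2)
    (fun y hy => Set.mem_iUnion.2 ⟨⟨y, hy⟩, hxW ⟨y, hy⟩⟩)
  refine ⟨T.sup n, Subtype.ext (funext fun y => ?_)⟩
  obtain ⟨x, hxT, hyx⟩ := Set.mem_iUnion₂.1 (hT y.2)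
  show X.presheaf.germ U.1 y.1 y.2 (g ^ T.sup n) • s.1 y = 0
  rw [← Nat.sub_add_cancel (Finset.le_sup (f := n) hxT), pow_add, map_mul, mul_smul, hW x y.1 y.2 hyx, smul_zero]

theorem toSec_surjective (U : X.affineOpens) : Function.Surjective (toSec i E U) := by
  intro s
  have hJ : (LinearMap.range (toSec i E U)).comap (LinearMap.toSpanSingleton Γ(X, U.1) _ s) = ⊤ :=
    eq_top_of_forall _ fun x hx => by
      obtain ⟨W, hW, z, hxW, h⟩ := s.2 ⟨x, hx⟩
      obtain ⟨g, hgle, hxg⟩ := U.2.exists_basicOpen_le ⟨x, hxW⟩ hx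
      let z' := extσ (rres hgle).hom i (resS E hgle) z
      obtain ⟨n, w, hw⟩ := (exists_localization_res U g).1 z'
      obtain ⟨N, hN⟩ := exists_pow_smul_eq_zero U g (g ^ n • s - toSec i E U w) fun y hy hyg => by
        show X.presheaf.germ U.1 y hy (g ^ n) • s.1 ⟨y, hy⟩ - gam i E U.1 y hy w = 0
        have h1 : gam i E U.1 y hy w = gam i E _ y hyg (rres (X.basicOpen_le g) (g ^ n) • z') := by
          rw [← hw, gam_res]
        rw [h1, LinearMap.map_smulₛₗ, gam_res, ← h y (hgle hyg), sub_eq_zero]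
        congr 1
        exact (X.presheaf.germ_res_apply (homOfLE (X.basicOpen_le g)) y hyg (g ^ n)).symm
      refine ⟨g ^ (N + n), ⟨g ^ N • w, ?_⟩, pow_mem (mem_primeCompl g hx hxg) _⟩
      rw [LinearMap.toSpanSingleton_apply, map_smul, pow_add, mul_smul]
      exact (sub_eq_zero.1 ((smul_sub (g ^ N) (g ^ n • s) (toSec i E U w)).symm.trans hN)).symm
  have h1 : (1 : Γ(X, U.1)) ∈ (LinearMap.range (toSec i E U)).comap
      (LinearMap.toSpanSingleton Γ(X, U.1) _ s) := hJ ▸ Submodule.mem_top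
  obtain ⟨w, hw⟩ := h1
  exact ⟨w, hw.trans (one_smul Γ(X, U.1) s)⟩

variable (i E) in
/-- Every quasi-coherent module has exterior powers. -/
theorem exists_isExtPow : ∃ L : X.Modules, ExtPow.IsExtPow i E L := by
  let e := fun U : X.affineOpens =>
    LinearEquiv.ofBijective (toSec i E U) ⟨toSec_injective U, toSec_surjective U⟩
  refine ⟨obj i E, fun U => (e U).symm, fun U V h v => ?_⟩
  refine Subtype.ext (funext fun y => ?_)
  change gam i E U.1 y.1 (h y.2) (exteriorPower.ιMulti _ i v) = gam i E V.1 y.1 y.2 (exteriorPower.ιMulti _ i _)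
  rw [← gam_res i E h y.1 y.2, extσ_ιMulti]
  rfl

end Groth.Agent.ExtPowSt.Exists

end
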