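import Mathlib.LinearAlgebra.FreeModule.PID
import Mathlib.LinearAlgebra.Determinant
import Mathlib.LinearAlgebra.ExteriorPower.Basis
import Mathlib.RingTheory.DiscreteValuationRing.Basic
import Mathlib.RingTheory.LocalRing.ResidueField.Basic

/-!
# Determinants of elementary modifications
-/

universe u

noncomputable section

namespace Groth.Agent.ExtPowSt

variable {R : Type u} [CommRing R] {M : Type*} [AddCommGroup M] [Module R M] {r : ℕ}

/-- Wedges in a free module of rank `r` are multiples of the wedge of a basis. -/
lemma ιMulti_eq_det_smul (e : Module.Basis (Fin r) R M) (v : Fin r → M) :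
    exteriorPower.ιMulti R r v = e.det v • exteriorPower.ιMulti R r e := by
  classical
  let g : M [⋀^Fin r]→ₗ[R] ↥(⋀[R]^r M) :=
    (LinearMap.toSpanSingleton R ↥(⋀[R]^r M) (exteriorPower.ιMulti R r e)).compAlternatingMap e.det
  have : exteriorPower.ιMulti R r = g := by
    refine Module.Basis.ext_alternating e fun i h => ?_
    let σ : Equiv.Perm (Fin r) := Equiv.ofBijective i (Finite.injective_iff_bijective.1 h)
    change exteriorPower.ιMulti R r (e ∘ σ) = g (e ∘ σ)
    simp [g, AlternatingMap.map_perm, Module.Basis.det_self]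
  exact congrArg (fun f : M [⋀^Fin r]→ₗ[R] ↥(⋀[R]^r M) => f v) this

/-- The functional given by a basis on the top exterior power. -/
lemma det_ιMulti (e : Module.Basis (Fin r) R M) :
    exteriorPower.alternatingMapLinearEquiv e.det (exteriorPower.ιMulti R r e) = 1 := by
  rw [exteriorPower.alternatingMapLinearEquiv_apply_ιMulti, Module.Basis.det_self]

/-- The top exterior power is free of rank one. -/
lemma bijective_smul_ιMulti (e : Module.Basis (Fin r) R M) :
    Function.Bijective (LinearMap.toSpanSingleton R ↥(⋀[R]^r M) (exteriorPower.ιMulti R r e)) := by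
  refine ⟨fun a b h => ?_, fun z => ?_⟩
  · have := congrArg (exteriorPower.alternatingMapLinearEquiv e.det) h
    simp only [LinearMap.toSpanSingleton_apply, map_smul, det_ιMulti, smul_eq_mul, mul_one] at this
    exact this
  · have hz : z ∈ Submodule.span R (Set.range (exteriorPower.ιMulti R r (M := M))) := by
      rw [exteriorPower.ιMulti_span]; trivial
    have hle : Submodule.span R (Set.range (exteriorPower.ιMulti R r (M := M))) ≤
        LinearMap.range (LinearMap.toSpanSingleton R ↥(⋀[R]^r M) (exteriorPower.ιMulti R r e)) := by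
      rw [Submodule.span_le]
      rintro _ ⟨v, rfl⟩
      exact ⟨e.det v, (ιMulti_eq_det_smul e v).symm⟩
    exact hle hz

variable {A : Type u} [CommRing A] [IsDomain A] [IsDiscreteValuationRing A]

/-- The determinant of a map with cokernel killed by a uniformizer and generated by `s` elements. -/
theorem exists_det_associated_pow {s : ℕ} {π : A} (hπ : Irreducible π)
    (N : (Fin r → A) →ₗ[A] (Fin r → A)) (hN : LinearMap.det N ≠ 0)
    (hkill : ∀ v, π • v ∈ LinearMap.range N)
    (g : Fin s → Fin r → A) (hgen : LinearMap.range N ⊔ Submodule.span A (Set.range g) = ⊤) :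
    ∃ k ≤ min s r, Associated (LinearMap.det N) (π ^ k) := by
  classical
  have hinj : Function.Injective N := by
    intro a b h
    rw [← LinearMap.toMatrix'_mulVec N] at h
    rw [← LinearMap.toMatrix'_mulVec N] at h
    have hd : (LinearMap.toMatrix' N).det ≠ 0 := by rwa [LinearMap.det_toMatrix']
    exact sub_eq_zero.mp (Matrix.eq_zero_of_mulVec_eq_zero hd (by rw [Matrix.mulVec_sub, h, sub_self]))
  let eN : (Fin r → A) ≃ₗ[A] LinearMap.range N := LinearEquiv.ofInjective N hinj
  obtain ⟨bM, bN, f, a, snf⟩ := Submodule.smithNormalFormOfRankEq (N := LinearMap.range N) (Pi.basisFun A (Fin r))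
    eN.finrank_eq.symm
  let σ : Fin (Fintype.card (Fin r)) ≃ Fin r :=
    Equiv.ofBijective f ⟨f.injective, ((Fintype.bijective_iff_injective_and_card f).mpr ⟨f.injective, by simp⟩).2⟩
  let b' : Module.Basis (Fin r) A (LinearMap.range N) := bN.reindex σ
  let c : Fin r → A := fun i => a (σ.symm i)
  have snf' : ∀ i, (b' i : Fin r → A) = c i • bM i := fun i => by
    rw [Module.Basis.reindex_apply, snf, show f (σ.symm i) = i from σ.apply_symm_apply i]
  let D : (Fin r → A) →ₗ[A] (Fin r → A) := bM.constr A fun i => c i • bM i
  let E : (Fin r → A) ≃ₗ[A] (Fin r → A) := eN.trans (b'.equiv bM (Equiv.refl _))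
  have hDE : N = D.comp E.toLinearMap := by
    refine LinearMap.ext fun v => ?_
    have key : ∀ w : LinearMap.range N, (w : Fin r → A) = D (b'.equiv bM (Equiv.refl _) w) := by
      have : (LinearMap.range N).subtype = D.comp (b'.equiv bM (Equiv.refl _)).toLinearMap :=
        b'.ext fun i => by
          simp only [Submodule.coe_subtype, LinearMap.coe_comp, Function.comp_apply, LinearEquiv.coe_coe,
            Module.Basis.equiv_apply, Equiv.refl_apply, D, Module.Basis.constr_basis, snf']
      exact fun w => LinearMap.congr_fun this w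
    exact key (eN v)
  have hdet : LinearMap.det N = (∏ i, c i) * LinearMap.det E.toLinearMap := by
    rw [hDE, LinearMap.det_comp, ← LinearMap.det_toMatrix bM D]
    congr 1
    rw [show LinearMap.toMatrix bM bM D = Matrix.diagonal c from ?_, Matrix.det_diagonal]
    ext i j
    rw [LinearMap.toMatrix_apply, Module.Basis.constr_basis, map_smul, Module.Basis.repr_self, Matrix.diagonal_apply]
    by_cases h : i = j
    · subst h; simp
    · simp [h, Finsupp.single_eq_of_ne h]
  -- membership in the range via coordinates
  have hmem : ∀ v ∈ LinearMap.range N, ∀ i, c i ∣ bM.repr v i := by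
    intro v hv i
    obtain ⟨w, rfl⟩ := hv
    refine ⟨bM.repr (E w) i, ?_⟩
    have : bM.repr (D (E w)) i = c i * bM.repr (E w) i := by
      conv_lhs => rw [← bM.sum_repr (E w), map_sum, map_sum, Finsupp.coe_finset_sum, Finset.sum_apply]
      rw [Finset.sum_eq_single i]
      · simp [D, mul_comm]
      · intro j _ hj
        simp [D, Finsupp.single_eq_of_ne (Ne.symm hj)]
      · simp
    rw [← this, hDE]
    rfl
  have hdiv : ∀ i, c i ∣ π := fun i => by
    have := hmem _ (hkill (bM i)) i
    simpa using this
  let J : Finset (Fin r) := Finset.univ.filter fun i => ¬ IsUnit (c i)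
  have hJ : ∀ i ∈ J, Associated (c i) π := fun i hi =>
    ((hπ.dvd_iff.mp (hdiv i)).resolve_left (Finset.mem_filter.mp hi).2).symm
  refine ⟨J.card, le_min ?_ (le_trans (Finset.card_le_univ J) (Fintype.card_fin r).le), ?_⟩
  · -- at most `s` non-unit entries
    let K := IsLocalRing.ResidueField A
    let q : (Fin r → A) →ₗ[A] (J → K) := LinearMap.pi fun j : J =>
      (Algebra.linearMap A K).comp ((bM.coord j.1))
    have hq : LinearMap.range N ≤ LinearMap.ker q := fun v hv => by
      refine LinearMap.mem_ker.mpr (funext fun j => ?_)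
      show algebraMap A K (bM.repr v j.1) = 0
      rw [IsLocalRing.ResidueField.algebraMap_eq, IsLocalRing.residue_eq_zero_iff, IsLocalRing.mem_maximalIdeal]
      exact fun hu => (Finset.mem_filter.mp j.2).2 (isUnit_of_dvd_unit (hmem v hv j.1) hu)
    have hsurj : Function.Surjective q := by
      intro y
      choose z hz using fun j => IsLocalRing.residue_surjective (y j)
      refine ⟨∑ j, z j • bM j.1, funext fun j => ?_⟩
      show algebraMap A K (bM.repr _ j.1) = _
      rw [map_sum, Finsupp.coe_finset_sum, Finset.sum_apply, Finset.sum_eq_single j]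
      · simpa [K, IsLocalRing.ResidueField.algebraMap_eq] using hz j
      · intro i _ hi
        simp [Finsupp.single_eq_of_ne (fun h => hi (Subtype.ext h).symm)]
      · simp
    have htop : Submodule.span K (Set.range (q ∘ g)) = ⊤ := by
      refine eq_top_iff.mpr fun y _ => ?_
      obtain ⟨v, rfl⟩ := hsurj y
      have hv : v ∈ LinearMap.range N ⊔ Submodule.span A (Set.range g) := hgen ▸ Submodule.mem_top
      obtain ⟨v₁, hv₁, v₂, hv₂, rfl⟩ := Submodule.mem_sup.mp hv
      rw [map_add, LinearMap.mem_ker.mp (hq hv₁), zero_add]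
      have h2 : q v₂ ∈ Submodule.span A (Set.range (q ∘ g)) := by
        rw [Set.range_comp, ← Submodule.map_span]
        exact ⟨v₂, hv₂, rfl⟩
      exact Submodule.span_le_restrictScalars A K (Set.range (q ∘ g)) h2
    have h := finrank_range_le_card (R := K) (q ∘ g)
    rw [Set.finrank, htop, finrank_top, Module.finrank_pi, Fintype.card_fin, Fintype.card_coe] at h
    exact h
  · have hu : IsUnit (LinearMap.det E.toLinearMap) := LinearEquiv.isUnit_det' E
    rw [hdet]
    refine (associated_mul_unit_left _ _ hu).trans ?_
    rw [← Finset.prod_filter_mul_prod_filter_not Finset.univ (fun i => ¬ IsUnit (c i))]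
    have h2 : IsUnit (∏ i ∈ Finset.univ.filter (fun i => ¬¬ IsUnit (c i)), c i) :=
      IsUnit.prod_iff.mpr fun i hi => not_not.mp (Finset.mem_filter.mp hi).2
    refine (associated_mul_unit_left _ _ h2).trans ?_
    rw [← Finset.prod_const]
    exact Associated.prod _ _ _ hJ

end Groth.Agent.ExtPowSt

end
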