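import Groth.Agent.ExtPowSt.Pullback
import Groth.Agent.Omega.ConormalProj
import Groth.Agent.Omega.DiagUniv

/-!
# Exterior powers of differentials under base change
-/

set_option autoImplicit false

universe u

open CategoryTheory CategoryTheory.Limits AlgebraicGeometry

namespace Groth.Agent.ExtPowSt.OmegaBC

theorem isQuasicoherent_omega {X S : Scheme.{u}} (f : X ⟶ S) [QuasiSeparated f] :
    (Omega.sheaf f).IsQuasicoherent := by
  haveI : (ClSub.idealMod (pullback.diagonal f).ker).IsQuasicoherent := AmpleLib.isQCoh_idealMod _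
  exact QCoh.isQuasicoherent_pullback (pullback.diagonal f) (ClSub.idealMod (pullback.diagonal f).ker)

theorem isExtPow_pullback_omega {X S X' S' : Scheme.{u}} {f : X ⟶ S} {f' : X' ⟶ S'} {g : X' ⟶ X}
    [QuasiSeparated f] {p : ℕ} {L : X.Modules} (e : (Scheme.Modules.pullback g).obj (Omega.sheaf f) ≅ Omega.sheaf f')
    (hL : ExtPow.IsExtPow p (Omega.sheaf f) L) :
    ExtPow.IsExtPow p (Omega.sheaf f') ((Scheme.Modules.pullback g).obj L) := by
  haveI := isQuasicoherent_omega f
  exact Pullback.isExtPow_of_iso_left e (Pullback.isExtPow_pullback g hL)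

end Groth.Agent.ExtPowSt.OmegaBC
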