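import Groth.Agent.ExtPowSt.Lattice
import Groth.Agent.IdealSh.CartierInSub
import Groth.Agent.IdealSh.IdealMod
import Groth.Agent.Omega.Stalks
import Groth.Agent.LFDesc.Invertible
import Groth.Agent.AmpleLib.Basic
import Groth.Agent.ClUnit.Basic
import Groth.Agent.RegLoc.UFD
import Groth.Agent.VBLib.Basic
import Groth.Agent.S1689
import Groth.Prelude.Def_FlatMod2

/-!
# Determinants of elementary modifications along a divisor
-/

universe u

open CategoryTheory Limits AlgebraicGeometry Opposite TopologicalSpace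

noncomputable section

namespace Groth.Agent.ExtPowSt

open Groth.Agent.HomShQC Groth.Agent.PullStalk.Sky Groth.Agent.QCoh Groth.Agent.Ref1 Groth.Agent.LFFrame

variable {X : Scheme.{u}}

/-- Exactness on stalks of a three term sequence. -/
lemma stalk_exact_right {F F' G : X.Modules} (a : F ⟶ F') (b : F' ⟶ G) (w : a ≫ b = 0)
    (hex : (ShortComplex.mk a b w).Exact) (hb : Epi b) (x : X) :
    Function.Surjective (RefHull.stalkMapₗ b x) ∧
      ∀ u, RefHull.stalkMapₗ b x u = 0 → ∃ v, RefHull.stalkMapₗ a x v = u := by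
  haveI := hb
  haveI : Epi (kernel.lift b a w) := (ShortComplex.exact_iff_epi_kernel_lift _).mp hex
  have hS : (ShortComplex.mk (kernel.ι b) b (kernel.condition b)).ShortExact :=
    { exact := ShortComplex.exact_of_f_is_kernel _ (kernelIsKernel b) }
  obtain ⟨-, h2, h3⟩ := PullStalk.Exact.stalk_exact hS x
  refine ⟨h3, fun u hu => ?_⟩
  obtain ⟨k, hk⟩ := (h2 u).mp hu
  obtain ⟨v, rfl⟩ := PullStalk.Exact.stalk_surjective (kernel.lift b a w) x k
  refine ⟨v, ?_⟩
  have h := Omega.Stalks.stalkLin_comp (kernel.lift b a w) (kernel.ι b) x v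
  rw [kernel.lift_ι] at h
  exact h.trans hk

section Push

variable (𝓓 : X.IdealSheafData) (G : (𝓓.subscheme).Modules)

/-- A direct image from a closed subscheme is killed by the ideal on stalks. -/
lemma smul_eq_zero_of_mem_stalkIdeal {x : X} {c : X.presheaf.stalk x} (hc : c ∈ IntMult.stalkIdeal 𝓓 x)
    (v : ((Scheme.Modules.pushforward 𝓓.subschemeι).obj G).presheaf.stalk x) : c • v = 0 := by
  obtain ⟨W, hW, m, rfl⟩ := exists_germM_eq _ x v
  obtain ⟨T, hxT, hT⟩ := IdealSh.Comap.exists_affine_le x W hW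
  rw [IdealSh.stalkIdeal_eq 𝓓 T hxT] at hc
  induction hc using Submodule.span_induction with
  | mem t ht =>
    obtain ⟨a, ha, rfl⟩ := ht
    rw [← germM_res _ hT x hxT m, ← germM_smul]
    refine (congrArg (germM _ T.1 x hxT) ?_).trans (map_zero _)
    have h0 : 𝓓.subschemeι.app T.1 a = 0 := (IdealSh.IdealMod.mem_ideal_iff 𝓓 T a).mp ha
    have h1 : ∀ n : Γ(G, 𝓓.subschemeι ⁻¹ᵁ T.1), 𝓓.subschemeι.app T.1 a • n = 0 := fun n => by
      rw [h0, zero_smul]
    exact h1 _
  | zero => rw [zero_smul]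
  | add a b _ _ ha hb => rw [add_smul, ha, hb, add_zero]
  | smul r a _ ha => rw [smul_eq_mul, mul_smul, ha, smul_zero]

lemma subsingleton_stalk_push {x : X} (hx : x ∉ 𝓓.support) :
    Subsingleton (((Scheme.Modules.pushforward 𝓓.subschemeι).obj G).presheaf.stalk x) := by
  refine ClUnit.subsingleton_stalk_pushforward 𝓓.subschemeι G x ⟨(𝓓.support : Set X)ᶜ, 𝓓.support.isClosed.isOpen_compl⟩
    hx (Opens.ext (Set.eq_empty_iff_forall_notMem.mpr fun z hz => hz ?_))
  rw [SetLike.mem_coe, ← SetLike.mem_coe, ← Scheme.IdealSheafData.range_subschemeι]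
  exact ⟨z, rfl⟩

/-- A direct image of a module with frames of `s` elements has stalks spanned by `s` elements. -/
lemma exists_span_push {s : ℕ} (hG : FlatMod.IsFinLocFreeOfRank s G) {x : X} (hx : x ∈ 𝓓.support) :
    ∃ t : Fin s → ((Scheme.Modules.pushforward 𝓓.subschemeι).obj G).presheaf.stalk x,
      ∀ v, ∃ c : Fin s → X.presheaf.stalk x, v = ∑ j, c j • t j := by
  classical
  obtain ⟨d, rfl⟩ : x ∈ Set.range 𝓓.subschemeι := by rw [Scheme.IdealSheafData.range_subschemeι]; exact hx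
  obtain ⟨V, hdV, ⟨φ⟩⟩ := hG d
  let p : Fin s → (FlatMod.freeMod (V : Scheme.{u}) s ⟶ Coh.structureModule (V : Scheme.{u})) :=
    fun j => Sigma.desc fun i => if i = j then 𝟙 _ else 0
  obtain ⟨e, he⟩ := exists_isFrame_of_split (M := G)
    (fun i => Sigma.ι (fun _ : Fin s => Coh.structureModule (V : Scheme.{u})) i ≫ φ.inv)
    (fun j => φ.hom ≫ p j) (fun i j => by simp [p]) (by
      rw [← cancel_epi φ.inv, ← cancel_mono φ.hom]
      apply Sigma.hom_ext
      intro j
      simp [p, Preadditive.comp_sum, Preadditive.sum_comp, Finset.sum_ite_eq', ite_comp])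
  obtain ⟨W₀, hW₀, hW₀V⟩ := (𝓓.subschemeι.isEmbedding.isInducing.isOpen_iff).mp V.2
  let W : X.Opens := ⟨W₀, hW₀⟩
  have hWV : 𝓓.subschemeι ⁻¹ᵁ W ≤ V := fun z hz => hW₀V.le hz
  have hxW : 𝓓.subschemeι d ∈ W := hW₀V.ge hdV
  refine ⟨fun j => germM _ W _ hxW (res G hWV (e j)), fun v => ?_⟩
  obtain ⟨W', hW', m, rfl⟩ := exists_germM_eq _ _ v
  obtain ⟨T, hxT, hT⟩ := IdealSh.Comap.exists_affine_le _ (W ⊓ W') ⟨hxW, hW'⟩
  have hTW : T.1 ≤ W := hT.trans inf_le_left
  have hle : 𝓓.subschemeι ⁻¹ᵁ T.1 ≤ V := le_trans (fun z hz => hTW hz) hWV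
  obtain ⟨a, ha⟩ := (he _ hle).2
    (res ((Scheme.Modules.pushforward 𝓓.subschemeι).obj G) (hT.trans inf_le_right) m)
  choose c hc using fun j => 𝓓.subschemeι_app_surjective T (a j)
  refine ⟨fun j => X.presheaf.germ T.1 _ hxT (c j), ?_⟩
  have hsum : germM ((Scheme.Modules.pushforward 𝓓.subschemeι).obj G) T.1 _ hxT
      (∑ j, c j • res ((Scheme.Modules.pushforward 𝓓.subschemeι).obj G) hTW (res G hWV (e j))) =
      ∑ j, X.presheaf.germ T.1 _ hxT (c j) • germM ((Scheme.Modules.pushforward 𝓓.subschemeι).obj G) W _ hxW (res G hWV (e j)) := by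
    refine (map_sum (((Scheme.Modules.pushforward 𝓓.subschemeι).obj G).presheaf.germ T.1 _ hxT).hom _ _).trans ?_
    exact Finset.sum_congr rfl fun j _ => (germM_smul _ T.1 _ hxT _ _).trans
      (congrArg (X.presheaf.germ T.1 _ hxT (c j) • ·) (germM_res _ hTW _ hxT _))
  refine Eq.trans ?_ hsum
  rw [← germM_res _ (hT.trans inf_le_right) _ hxT m]
  refine congrArg (germM _ T.1 _ hxT) (ha.symm.trans ?_)
  refine Finset.sum_congr rfl fun j _ => ?_
  show a j • G.presheaf.map (homOfLE hle).op (e j) =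
    (𝓓.subschemeι.app T.1 (c j)) • res G (fun z hz => hTW hz) (res G hWV (e j))
  rw [hc, QCoh.res_res]

end Push

variable [IsIntegral X] [IsLocallyNoetherian X]

local notation "η" => genericPoint X

omit [IsLocallyNoetherian X] in
/-- A module locally free of rank `r` on some open has generic stalk of dimension `r`. -/
lemma exists_basis_η (F : X.Modules) {r : ℕ} (U : X.Opens) (hU : (U : Set X).Nonempty)
    (h : FlatMod.IsFinLocFreeOfRank r (F.restrict U.ι)) :
    Nonempty (Module.Basis (Fin r) (X.presheaf.stalk η) (F.presheaf.stalk η)) := by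
  classical
  obtain ⟨z, hz⟩ := hU
  obtain ⟨V, hzV, ⟨φ⟩⟩ := h ⟨z, hz⟩
  let p : Fin r → (FlatMod.freeMod (V : Scheme.{u}) r ⟶ Coh.structureModule (V : Scheme.{u})) :=
    fun j => Sigma.desc fun i => if i = j then 𝟙 _ else 0
  obtain ⟨e, he⟩ := exists_isFrame_of_split (M := F.restrict U.ι)
    (fun i => Sigma.ι (fun _ : Fin r => Coh.structureModule (V : Scheme.{u})) i ≫ φ.inv)
    (fun j => φ.hom ≫ p j) (fun i j => by simp [p]) (by
      rw [← cancel_epi φ.inv, ← cancel_mono φ.hom]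
      apply Sigma.hom_ext
      intro j
      simp [p, Preadditive.comp_sum, Preadditive.sum_comp, Finset.sum_ite_eq', ite_comp])
  have hη : η ∈ U.ι ''ᵁ V := (hsp z).mem_open (U.ι ''ᵁ V).2 ⟨⟨z, hz⟩, hzV, rfl⟩
  exact ⟨Module.Basis.ofEquivFun (LinearEquiv.ofBijective _
    ((Ref1.isFrame_of_restrict he).stalkComb_bijective η hη)).symm⟩

omit [IsLocallyNoetherian X] in
/-- A surjection between generic stalks of the same rank is bijective. -/
lemma bijective_of_surjective {F F' : X.Modules} {r : ℕ}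
    (b : Module.Basis (Fin r) (X.presheaf.stalk η) (F.presheaf.stalk η))
    (b' : Module.Basis (Fin r) (X.presheaf.stalk η) (F'.presheaf.stalk η))
    (T : F.presheaf.stalk η →ₗ[X.presheaf.stalk η] F'.presheaf.stalk η) (hT : Function.Surjective T) :
    Function.Bijective T := by
  refine ⟨?_, hT⟩
  haveI : Module.Finite (X.presheaf.stalk η) (F.presheaf.stalk η) := Module.Finite.of_basis b
  let e : F'.presheaf.stalk η ≃ₗ[X.presheaf.stalk η] F.presheaf.stalk η := b'.equiv b (Equiv.refl _)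
  have h := OrzechProperty.injective_of_surjective_endomorphism (e.toLinearMap.comp T)
    (e.surjective.comp hT)
  exact fun x y hxy => h (congrArg e hxy)

omit [IsLocallyNoetherian X] in
lemma isNormal_of_regular (hreg : ∀ x : X, IsRegularLocalRing (X.presheaf.stalk x)) : Pi1.IsNormalScheme X := by
  intro x
  haveI := hreg x
  obtain ⟨d, hd, -⟩ := RegLoc.exists_natCast_eq_ringKrullDim (X.presheaf.stalk x)
  haveI := RegLoc.UFD.uniqueFactorizationMonoid_aux d (X.presheaf.stalk x) hd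
  exact ⟨inferInstance, inferInstance⟩

/-- Rank one reflexive modules on regular schemes of dimension at most two are invertible. -/
theorem isInvertible_ddual (hreg : ∀ x : X, IsRegularLocalRing (X.presheaf.stalk x))
    (hdim : topologicalKrullDim X ≤ 2) (L : X.Modules) (hL : Coh.IsCoh L) (hr : IsRankOne L) :
    PicF.IsInvertible (RefHull.ddual L) := by
  classical
  have hR := isRef1_ddual L hL hr
  haveI := hR.1.1
  refine LFDesc.isInvertible_of_stalks _ (fun U hU => (isFiniteType_iff (RefHull.ddual L)).mp hR.1.2 U hU) fun x => ?_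
  haveI := hreg x
  haveI : Ring.KrullDimLE 2 (X.presheaf.stalk x) := S1688.krullDimLE_stalk (n := 2) hdim x
  have hD := isCoh_dual L hL
  haveI := finite_stalk _ hD.2 x
  haveI : Module.Free (X.presheaf.stalk x) ((RefHull.ddual L).presheaf.stalk x) := by
    haveI := S1689.free_dual (X.presheaf.stalk x) ((RefHull.dual L).presheaf.stalk x)
    exact Module.Free.of_equiv (dualEquiv (RefHull.dual L) (isFP_of_isCoh _ hD) x).symm
  let β := Module.Free.chooseBasis (X.presheaf.stalk x) ((RefHull.ddual L).presheaf.stalk x)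
  have hr' := rankOne_of_isRef1 hR
  have hinj := toη_injective_of_isReflexive _ hR.1 hR.2.1 x
  obtain ⟨w, hw⟩ := hr'.exists_ne_zero
  obtain ⟨c, v, hc, hv⟩ := exists_smul_eq_toη (RefHull.ddual L) x w
  haveI : Nonempty (Module.Free.ChooseBasisIndex (X.presheaf.stalk x) ((RefHull.ddual L).presheaf.stalk x)) := by
    by_contra hI
    haveI := not_nonempty_iff.mp hI
    have h0 : v = 0 := β.repr.injective (Subsingleton.elim _ _)
    rw [h0, map_zero] at hv
    exact hw ((isUnit_of_ne_zero (toK_ne_zero hc)).smul_eq_zero.mp hv.symm)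
  haveI : Subsingleton (Module.Free.ChooseBasisIndex (X.presheaf.stalk x) ((RefHull.ddual L).presheaf.stalk x)) := by
    refine ⟨fun i j => ?_⟩
    by_contra hij
    have hi : toη (RefHull.ddual L) x (β i) ≠ 0 := fun h => β.ne_zero i (hinj (h.trans (map_zero _).symm))
    obtain ⟨q, hq⟩ := hr'.exists_smul hi (toη (RefHull.ddual L) x (β j))
    obtain ⟨a, bσ, ha, hbσ⟩ := exists_smul_eq_toη (Coh.structureModule X) x (unitStalk η q)
    obtain ⟨b, rfl⟩ := (unitStalk x).surjective bσ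
    rw [toη, sp_unitStalk, ← map_smul, smul_eq_mul] at hbσ
    have hb : toK x b = toK x a * q := (unitStalk _).injective hbσ
    have h : a • β j = b • β i := hinj (by
      rw [toη, sp_smul, sp_smul, show sp (RefHull.ddual L) (hsp x) (β j) = _ from hq, smul_smul]
      exact congrArg (· • _) hb.symm)
    have h' := congrArg (fun t => β.repr t j) h
    simp [hij] at h'
    exact ha h'
  haveI := uniqueOfSubsingleton (Classical.arbitrary (Module.Free.ChooseBasisIndex (X.presheaf.stalk x) ((RefHull.ddual L).presheaf.stalk x)))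
  exact ⟨β.reindex (Equiv.ofUnique _ (Fin 1))⟩

/-- Invertible modules are rank one reflexive. -/
lemma isRef1_of_isInvertible {F : X.Modules} (hF : PicF.IsInvertible F) : RefHull.IsRef1 F := by
  have hlf : FlatMod.IsFinLocFree F := fun x => by
    obtain ⟨U, hx, ⟨φ⟩⟩ := hF x
    refine ⟨U, 1, hx, ⟨φ ≪≫ ?_⟩⟩
    exact
      { hom := Sigma.ι (fun _ : Fin 1 => Coh.structureModule (U : Scheme.{u})) 0
        inv := Sigma.desc fun _ => 𝟙 _
        hom_inv_id := Sigma.ι_desc _ _
        inv_hom_id := Sigma.hom_ext _ _ fun j => by rw [Subsingleton.elim j 0]; simp }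
  have hC := VBLib.isCoh_of_isFinLocFree hlf
  refine ⟨hC, (isReflexive_iff_of_isCoh F hC).mpr fun x => ?_, genInvertible_of_isRankOne F hC ?_⟩
  · obtain ⟨b⟩ := LFDesc.exists_basis_stalk hF x
    haveI := Module.Free.of_basis b
    haveI := Module.Finite.of_basis b
    exact (inferInstance : Module.IsReflexive (X.presheaf.stalk x) (F.presheaf.stalk x))
  · obtain ⟨b⟩ := LFDesc.exists_basis_stalk hF η
    exact ⟨(b.equivFun.trans (LinearEquiv.funUnique (Fin 1) _ _)).symm⟩

/-- A section with given orders in a tensor product of invertible modules. -/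
lemma exists_tensor_sec (hX : Pi1.IsNormalScheme X) {F G : X.Modules} (hF : PicF.IsInvertible F) (hG : PicF.IsInvertible G)
    {s : F.presheaf.stalk η} (hs : s ≠ 0) {t : G.presheaf.stalk η} (ht : t ≠ 0) :
    ∃ w : (CohB1.tensorMod F G).presheaf.stalk η, w ≠ 0 ∧
      ∀ y : X, Order.coheight y = 1 → ordS (CohB1.tensorMod F G) y w = ordS F y s + ordS G y t := by
  have hT := isRef1_of_isInvertible (AmpleLib.isInvertible_tensorMod hF hG)
  obtain ⟨hR, hne, hord⟩ := tensorSec_spec hX (isRef1_of_isInvertible hF) (isRef1_of_isInvertible hG) hs ht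
  haveI : IsIso (RefHull.bidualMap (CohB1.tensorMod F G)) := hT.2.1
  let i := asIso (RefHull.bidualMap (CohB1.tensorMod F G))
  obtain ⟨u, hu⟩ := (rankOne_of_isRef1 hT).exists_ne_zero
  obtain ⟨f, hf, hford⟩ := exists_ordS_eq_of_iso hX hT hR i hu hne
  obtain ⟨f', hf'⟩ := isUnit_of_ne_zero hf
  refine ⟨(f'⁻¹ : (X.presheaf.stalk η)ˣ).1 • u, fun h => hu ((f'⁻¹ : (X.presheaf.stalk η)ˣ).isUnit.smul_eq_zero.mp h),
    fun y hy => ?_⟩
  have hinv : (f'⁻¹ : (X.presheaf.stalk η)ˣ).1 ≠ 0 := Units.ne_zero _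
  have h1 := ord_mul' (y := y) hinv hf
  rw [← hf', Units.inv_mul] at h1
  have h2 := ord_mul' (y := y) (one_ne_zero (α := X.presheaf.stalk η)) (one_ne_zero (α := X.presheaf.stalk η))
  rw [one_mul] at h2
  rw [ordS_smul hX hT hy hu hinv, hford y hy, hord y hy, ← hf']
  omega

/-- Sections of powers of the dual of the ideal of an integral divisor. -/
lemma exists_pow_sec (hX : Pi1.IsNormalScheme X) (𝓓 : X.IdealSheafData) (hD : BlowUp.IsEffCartierIdeal 𝓓)
    [IsIntegral 𝓓.subscheme] (hreg : ∀ x : X, IsRegularLocalRing (X.presheaf.stalk x))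
    (hdim : topologicalKrullDim X ≤ 2) :
    ∀ k : ℕ, PicF.IsInvertible (CohB1.tensorPow (RefHull.dual (ClSub.idealMod 𝓓)) k) ∧
      ∃ w : (CohB1.tensorPow (RefHull.dual (ClSub.idealMod 𝓓)) k).presheaf.stalk η, w ≠ 0 ∧
        ∀ y : X, Order.coheight y = 1 →
          (y = IdealSh.gen 𝓓 → ordS (CohB1.tensorPow (RefHull.dual (ClSub.idealMod 𝓓)) k) y w = k) ∧
          (y ≠ IdealSh.gen 𝓓 → ordS (CohB1.tensorPow (RefHull.dual (ClSub.idealMod 𝓓)) k) y w = 0) := by
  classical
  have hJ := isRef1_of_isInvertible (IdealSh.IdealMod.isInvertible_of_isEffCartierIdeal 𝓓 hD)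
  have hη : η ∉ 𝓓.support := fun h => by
    obtain ⟨z, hz, hzD⟩ := IdealSh.exists_generization 𝓓 hD h
    exact hzD ((hz.antisymm (hsp z)).eq ▸ h)
  -- the section "one" of the ideal
  obtain ⟨J0, hJ0⟩ : ∃ J0 : (ClSub.idealMod 𝓓).presheaf.stalk η,
      RefHull.stalkMapₗ (ClSub.idealModι 𝓓) η J0 = unitStalk η 1 := by
    obtain ⟨T, hηT, hT⟩ := IdealSh.Comap.exists_affine_le η ⟨(𝓓.support : Set X)ᶜ, 𝓓.support.isClosed.isOpen_compl⟩ hη
    have htop : (1 : Γ(X, T.1)) ∈ 𝓓.ideal T := by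
      by_contra hne
      obtain ⟨M, hM, hle⟩ := Ideal.exists_le_maximal _ ((Ideal.ne_top_iff_one _).mpr hne)
      let p : PrimeSpectrum Γ(X, T.1) := ⟨M, hM.isPrime⟩
      have hpT : T.2.fromSpec p ∈ T.1 := T.2.range_fromSpec.le ⟨p, rfl⟩
      refine hT hpT ?_
      rw [SetLike.mem_coe, Scheme.IdealSheafData.mem_support_iff_of_mem hpT, Scheme.mem_zeroLocus_iff]
      intro a ha h
      have : p ∈ T.2.fromSpec ⁻¹ᵁ X.basicOpen a := h
      rw [T.2.fromSpec_preimage_basicOpen] at this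
      exact this (hle ha)
    obtain ⟨s1, hs1⟩ := IdealSh.IdealMod.exists_sect 𝓓 T.1 1 ((IdealSh.IdealMod.mem_ideal_iff 𝓓 T 1).mp htop)
    refine ⟨germM _ T.1 η hηT s1, ?_⟩
    rw [RefHull.stalkMapₗ_germ, ← map_one (X.presheaf.germ T.1 η hηT).hom, unitStalk_germ, ← hs1]
    rfl
  have hJ0ne : J0 ≠ 0 := fun h => one_ne_zero (α := X.presheaf.stalk η)
    ((unitStalk η).injective (hJ0.symm.trans (by rw [h, map_zero, map_zero])))
  have hordJ : ∀ y : X, Order.coheight y = 1 →
      (y = IdealSh.gen 𝓓 → ordS (ClSub.idealMod 𝓓) y J0 = -1) ∧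
      (y ≠ IdealSh.gen 𝓓 → ordS (ClSub.idealMod 𝓓) y J0 = 0) := by
    intro y hy
    obtain ⟨_, hDVR⟩ := VarDim.isDiscreteValuationRing_stalk_of_coheight_eq_one hX y hy
    obtain ⟨U, hyU, f, hf, he⟩ := hD y
    obtain ⟨e, hframe, hef⟩ := IdealSh.IdealMod.exists_isFrame_of_equation 𝓓 hf he
    let c := X.presheaf.germ U.1 y hyU f
    let t := germM (ClSub.idealMod 𝓓) U.1 y hyU (e 0)
    have hιt : RefHull.stalkMapₗ (ClSub.idealModι 𝓓) y t = unitStalk y c := by
      rw [RefHull.stalkMapₗ_germ, unitStalk_germ, ← hef]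
      rfl
    have hc0 : c ≠ 0 := fun h0 => by
      have := IdealSh.Regular.germ_mem_nonZeroDivisors U.2 y hyU hf
      exact nonZeroDivisors.ne_zero this h0
    have htη : toη (ClSub.idealMod 𝓓) y t = toK y c • J0 := by
      haveI : Mono (ClSub.idealModι 𝓓) := inferInstanceAs (Mono (kernel.ι (ClSub.toSubscheme 𝓓)))
      refine Omega.Stalks.stalkLin_injective_of_mono (ClSub.idealModι 𝓓) η ?_
      show RefHull.stalkMapₗ (ClSub.idealModι 𝓓) η _ = RefHull.stalkMapₗ (ClSub.idealModι 𝓓) η _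
      rw [← sp_stalkMap, hιt, map_smul, hJ0, sp_unitStalk, ← map_smul, smul_eq_mul, mul_one]
    have htg : IsGenAt (ClSub.idealMod 𝓓) y t := by
      refine ⟨eq_top_iff.mpr fun v _ => ?_, ?_⟩
      · obtain ⟨a, rfl⟩ := (hframe.stalkComb_bijective y hyU).2 v
        refine Submodule.mem_span_singleton.mpr ⟨a 0, ?_⟩
        simp [stalkComb, Fintype.linearCombination_apply, t]
      · rw [htη]
        exact fun h => hJ0ne ((isUnit_of_ne_zero (toK_ne_zero hc0)).smul_eq_zero.mp h)
    obtain ⟨u, hu⟩ := isUnit_of_ne_zero (toK_ne_zero hc0)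
    have hJ0' : J0 = (u⁻¹ : (X.presheaf.stalk η)ˣ).1 • toη (ClSub.idealMod 𝓓) y t := by
      rw [htη, smul_smul, ← hu, Units.inv_mul, one_smul]
    have hord : ordS (ClSub.idealMod 𝓓) y J0 = - Scheme.ord (toK y c) y := by
      rw [hJ0', ordS_eq (rankOne_of_isRef1 hJ) hy htg (Units.ne_zero _)]
      have h1 := ord_mul' (y := y) (Units.ne_zero u⁻¹) (Units.ne_zero u)
      rw [Units.inv_mul] at h1
      have h2 := ord_mul' (y := y) (one_ne_zero (α := X.presheaf.stalk η)) (one_ne_zero (α := X.presheaf.stalk η))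
      rw [one_mul] at h2
      rw [← hu]
      omega
    have hspanc : IntMult.stalkIdeal 𝓓 y = Ideal.span {c} := by
      rw [IdealSh.stalkIdeal_eq 𝓓 U hyU, he, Ideal.map_span, Set.image_singleton]
    refine ⟨fun hye => ?_, fun hne => ?_⟩
    · subst hye
      rw [IdealSh.stalkIdeal_gen] at hspanc
      have hirr : Irreducible c := (IsDiscreteValuationRing.irreducible_iff_uniformizer c).mpr hspanc
      haveI : Ring.KrullDimLE 1 (X.presheaf.stalk (IdealSh.gen 𝓓)) := krullDimLE_of_coheight_le hy.le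
      rw [hord, ord_toK hy hc0, Ring.ord_of_irreducible hirr]
      rfl
    · have hnot : y ∉ 𝓓.support := fun h => hne (IdealSh.eq_gen 𝓓 hD h hy.le)
      rw [← IdealSh.stalkIdeal_eq_top_iff, hspanc, Ideal.span_singleton_eq_top] at hnot
      rw [hord, ord_toK_of_isUnit hy hnot, neg_zero]
  obtain ⟨w1, hw1, hw1ord⟩ := exists_dualSec hX hJ hJ0ne
  have hJd : PicF.IsInvertible (RefHull.dual (ClSub.idealMod 𝓓)) := by
    have hR := isRef1_dual hJ
    have hi := isInvertible_ddual hreg hdim _ hR.1 (rankOne_of_isRef1 hR)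
    intro x
    obtain ⟨U, hx, ⟨φ⟩⟩ := hi x
    haveI : IsIso (RefHull.bidualMap (RefHull.dual (ClSub.idealMod 𝓓))) := hR.2.1
    exact ⟨U, hx, ⟨(Scheme.Modules.restrictFunctor U.ι).mapIso (asIso (RefHull.bidualMap _)) ≪≫ φ⟩⟩
  intro k
  induction k with
  | zero =>
    refine ⟨isInvertible_structureModule X, unitStalk η 1, fun h => one_ne_zero (α := X.presheaf.stalk η)
      ((unitStalk η).injective (h.trans (map_zero _).symm)), fun y hy => ?_⟩
    exact ⟨fun _ => (ordS_one hy).trans Nat.cast_zero.symm, fun _ => ordS_one hy⟩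
  | succ k ih =>
    obtain ⟨hi, w, hw, hord⟩ := ih
    obtain ⟨w', hw', hord'⟩ := exists_tensor_sec hX hi hJd hw hw1
    refine ⟨AmpleLib.isInvertible_tensorMod hi hJd, w', hw', fun y hy => ⟨fun e => ?_, fun e => ?_⟩⟩
    · refine (hord' y hy).trans ?_
      rw [(hord y hy).1 e, hw1ord y hy, (hordJ y hy).1 e]
      push_cast
      ring
    · refine (hord' y hy).trans ?_
      rw [(hord y hy).2 e, hw1ord y hy, (hordJ y hy).2 e]
      norm_num

/-- The two orders of wedges at a codimension one point. -/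
theorem exists_local_pow (hX : Pi1.IsNormalScheme X) {r s : ℕ} {F F' L L' : X.Modules} (hF : Coh.IsCoh F) (hF' : Coh.IsCoh F')
    [F.IsQuasicoherent] [F'.IsQuasicoherent] (Φ : Sys r F L) (Φ' : Sys r F' L') (a : F ⟶ F') {H : X.Modules} (b : F' ⟶ H)
    (w : a ≫ b = 0) (hex : (ShortComplex.mk a b w).Exact) (hb : Epi b)
    (bF : Module.Basis (Fin r) (X.presheaf.stalk η) (F.presheaf.stalk η))
    (ha : Function.Bijective (RefHull.stalkMapₗ a η)) {y : X} (hy : Order.coheight y = 1)
    (hkill : ∀ c ∈ IsLocalRing.maximalIdeal (X.presheaf.stalk y), ∀ h : H.presheaf.stalk y, c • h = 0)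
    (t : Fin s → H.presheaf.stalk y) (ht : ∀ h, ∃ c : Fin s → X.presheaf.stalk y, h = ∑ j, c j • t j) :
    ∃ k ≤ min s r, ordS (RefHull.ddual L') y (sη Φ' fun i => RefHull.stalkMapₗ a η (bF i)) =
      ordS (RefHull.ddual L) y (sη Φ bF) + k := by
  classical
  obtain ⟨_, hDVR⟩ := VarDim.isDiscreteValuationRing_stalk_of_coheight_eq_one hX y hy
  haveI : Ring.KrullDimLE 1 (X.presheaf.stalk y) := krullDimLE_of_coheight_le hy.le
  let T := LinearEquiv.ofBijective _ ha
  obtain ⟨e, ε, hε, hspan⟩ := exists_lattice F hF y bF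
  obtain ⟨e', ε', hε', hspan'⟩ := exists_lattice F' hF' y (bF.map T)
  obtain ⟨hsurj, hker⟩ := stalk_exact_right a b w hex hb y
  -- the matrix of `a`
  choose M hM using fun j => hspan' (RefHull.stalkMapₗ a y (e j))
  let Mat : Matrix (Fin r) (Fin r) (X.presheaf.stalk y) := Matrix.of fun i j => M j i
  let N := Matrix.toLin' Mat
  have hTε : ∀ j, T (ε j) = ∑ i, toK y (M j i) • ε' i := fun j => by
    rw [← hM j, hε j, LinearEquiv.ofBijective_apply, toη, sp_stalkMap]
  have hdetM : ε'.det (fun j => T (ε j)) = toK y Mat.det := by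
    rw [Module.Basis.det_apply, RingHom.map_det]
    congr 1
    ext i j
    rw [Module.Basis.toMatrix_apply, RingHom.mapMatrix_apply, Matrix.map_apply, hTε, Module.Basis.repr_sum_self]
    rfl
  have hdet0 : Mat.det ≠ 0 := fun h0 => by
    have h1 := ε'.isUnit_det (ε.map T)
    rw [show (⇑(ε.map T)) = fun j => T (ε j) from funext fun j => ε.map_apply T j, hdetM, h0, map_zero] at h1
    exact not_isUnit_zero h1
  have hN : LinearMap.det N ≠ 0 := by rwa [LinearMap.det_toLin']
  -- coordinates of an element killed by `b`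
  have hrange : ∀ (v : Fin r → X.presheaf.stalk y) (u : F'.presheaf.stalk y),
      toη F' y u = ∑ i, toK y (v i) • ε' i → RefHull.stalkMapₗ b y u = 0 → v ∈ LinearMap.range N := by
    intro v u hu hbu
    obtain ⟨z, hz⟩ := hker u hbu
    obtain ⟨x, hx⟩ := hspan z
    refine ⟨x, funext fun i => toK_injective y ?_⟩
    have h1 : toη F' y u = ∑ i, (∑ j, toK y (M j i) * toK y (x j)) • ε' i := by
      rw [← hz, toη, sp_stalkMap, show sp F (hsp y) z = _ from hx, map_sum]
      simp only [map_smul]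
      have : ∀ j, RefHull.stalkMapₗ a η (ε j) = ∑ i, toK y (M j i) • ε' i := hTε
      simp only [this, Finset.smul_sum, smul_smul, Finset.sum_smul]
      rw [Finset.sum_comm]
      exact Finset.sum_congr rfl fun i _ => Finset.sum_congr rfl fun j _ => by rw [mul_comm]
    have h2 := congrArg (fun w => ε'.repr w i) (h1.symm.trans hu)
    simp only [Module.Basis.repr_sum_self] at h2
    rw [← h2]
    simp [N, Matrix.toLin'_apply, Matrix.mulVec, dotProduct, Mat, map_sum, map_mul]
  have hu : ∀ v : Fin r → X.presheaf.stalk y,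
      toη F' y (∑ i, v i • e' i) = ∑ i, toK y (v i) • ε' i := fun v => by
    rw [map_sum]
    exact Finset.sum_congr rfl fun i _ => by rw [hε' i]; exact sp_smul F' (hsp y) _ _
  obtain ⟨π, hπ⟩ := IsDiscreteValuationRing.exists_irreducible (X.presheaf.stalk y)
  choose u' hu' using fun j => hsurj (t j)
  choose g hg using fun j => hspan' (u' j)
  obtain ⟨k, hk, hassoc⟩ := exists_det_associated_pow hπ N hN
    (fun v => hrange _ (∑ i, (π • v) i • e' i) (hu _) (by
      rw [show (∑ i, (π • v) i • e' i) = π • ∑ i, v i • e' i by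
        rw [Finset.smul_sum]
        exact Finset.sum_congr rfl fun i _ => by rw [smul_smul]; rfl, map_smul]
      exact hkill π ((IsLocalRing.mem_maximalIdeal π).mpr hπ.not_isUnit) _))
    g (by
      refine eq_top_iff.mpr fun v _ => ?_
      obtain ⟨c, hc⟩ := ht (RefHull.stalkMapₗ b y (∑ i, v i • e' i))
      refine Submodule.mem_sup.mpr ⟨v - ∑ j, c j • g j, hrange _ (∑ i, v i • e' i - ∑ j, c j • u' j) ?_ ?_,
        ∑ j, c j • g j, Submodule.sum_mem _ fun j _ => Submodule.smul_mem _ _ (Submodule.subset_span ⟨j, rfl⟩),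
        sub_add_cancel _ _⟩
      · rw [map_sub, hu, map_sum]
        have : ∀ j, toη F' y (c j • u' j) = toK y (c j) • ∑ i, toK y (g j i) • ε' i := fun j => by
          rw [← hg j]
          exact sp_smul F' (hsp y) _ _
        simp only [this, Pi.sub_apply, map_sub, sub_smul, Finset.sum_sub_distrib, Finset.smul_sum, smul_smul]
        congr 1
        rw [Finset.sum_comm]
        exact Finset.sum_congr rfl fun i _ => by
          rw [Finset.sum_apply, map_sum, Finset.sum_smul]
          exact Finset.sum_congr rfl fun j _ => by rw [Pi.smul_apply, smul_eq_mul, map_mul]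
      · rw [map_sub, hc, sub_eq_zero, map_sum]
        exact Finset.sum_congr rfl fun j _ => by rw [map_smul, hu' j])
  refine ⟨k, hk, ?_⟩
  obtain ⟨c, hc0, hbF⟩ : ∃ c, c ≠ 0 ∧ exteriorPower.ιMulti (X.presheaf.stalk η) r bF =
      c • exteriorPower.ιMulti (X.presheaf.stalk η) r ε :=
    ⟨ε.det bF, (ε.isUnit_det bF).ne_zero, ιMulti_eq_det_smul ε bF⟩
  have hs : sη Φ bF = c • sη Φ ε := by
    rw [sη, sη, wη, wη, hbF, map_smul, map_smul]
  have hs' : sη Φ' (fun i => RefHull.stalkMapₗ a η (bF i)) = (c * toK y Mat.det) • sη Φ' ε' := by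
    have h1 := congrArg (exteriorPower.map r T.toLinearMap) hbF
    rw [map_smul, exteriorPower.map_apply_ιMulti, exteriorPower.map_apply_ιMulti,
      ιMulti_eq_det_smul ε' (T.toLinearMap ∘ ⇑ε), show ε'.det (T.toLinearMap ∘ ⇑ε) = _ from hdetM, smul_smul] at h1
    rw [sη, sη, wη, wη, ← map_smul, ← map_smul]
    exact congrArg (fun z => RefHull.stalkMapₗ (RefHull.bidualMap L') η ((stalkEquiv Φ' η).symm z)) h1
  rw [hs, hs', ordS_sη Φ' hF' hy e' ε' hε' hspan' (mul_ne_zero hc0 (toK_ne_zero hdet0)),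
    ordS_sη Φ hF hy e ε hε hspan hc0, ord_mul' hc0 (toK_ne_zero hdet0)]
  congr 1
  have hA : Associated Mat.det (π ^ k) := by
    rwa [LinearMap.det_toLin'] at hassoc
  obtain ⟨v, hv⟩ := hA.symm
  have hπk : π ^ k ≠ 0 := pow_ne_zero _ hπ.ne_zero
  rw [← hv, map_mul, ord_mul' (toK_ne_zero hπk) (toK_ne_zero (Units.ne_zero v)),
    ord_toK_of_isUnit hy v.isUnit, add_zero, ord_toK hy hπk,
    Ring.ord_pow (mem_nonZeroDivisors_iff_ne_zero.mpr hπ.ne_zero), Ring.ord_of_irreducible hπ, nsmul_one]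
  rfl

/-- The twist of the reflexive determinant in an elementary modification. -/
theorem exists_twist (hreg : ∀ x : X, IsRegularLocalRing (X.presheaf.stalk x)) (hdim : topologicalKrullDim X ≤ 2)
    (𝓓 : X.IdealSheafData) (hD : BlowUp.IsEffCartierIdeal 𝓓) (hDi : IsIntegral 𝓓.subscheme) (s : ℕ)
    (G : (𝓓.subscheme).Modules) (hG : FlatMod.IsFinLocFreeOfRank s G) (F F' : X.Modules) (hF : Coh.IsCoh F)
    (hF' : Coh.IsCoh F') (a : F ⟶ F') (b : F' ⟶ (Scheme.Modules.pushforward 𝓓.subschemeι).obj G) (w : a ≫ b = 0)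
    (hex : (ShortComplex.mk a b w).Exact) (hb : Epi b) (r : ℕ)
    (hU : ∃ U : X.Opens, (U : Set X).Nonempty ∧ FlatMod.IsFinLocFreeOfRank r (F.restrict U.ι) ∧
      FlatMod.IsFinLocFreeOfRank r (F'.restrict U.ι))
    (L L' : X.Modules) (hL : ExtPow.IsExtPow r F L) (hL' : ExtPow.IsExtPow r F' L') :
    PicF.IsInvertible (RefHull.ddual L) ∧ PicF.IsInvertible (RefHull.ddual L') ∧
      ∃ k : ℕ, k ≤ min s r ∧
        Nonempty (RefHull.ddual L' ≅
          CohB1.tensorMod (RefHull.ddual L) (CohB1.tensorPow (RefHull.dual (ClSub.idealMod 𝓓)) k)) := by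
  classical
  haveI := hF.1
  haveI := hF'.1
  haveI := hDi
  obtain ⟨φ, hφ⟩ := hL
  obtain ⟨φ', hφ'⟩ := hL'
  let Φ : Sys r F L := ⟨φ, hφ⟩
  let Φ' : Sys r F' L' := ⟨φ', hφ'⟩
  obtain ⟨U, hU0, hUF, hUF'⟩ := hU
  obtain ⟨bF⟩ := exists_basis_η F U hU0 hUF
  obtain ⟨bF'⟩ := exists_basis_η F' U hU0 hUF'
  have hX := isNormal_of_regular hreg
  have hcL := isCoh Φ hF
  have hcL' := isCoh Φ' hF'
  have hrL := isRankOne_extPow Φ bF
  have hrL' := isRankOne_extPow Φ' bF'
  have hiL := isInvertible_ddual hreg hdim L hcL hrL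
  have hiL' := isInvertible_ddual hreg hdim L' hcL' hrL'
  refine ⟨hiL, hiL', ?_⟩
  have hη : η ∉ 𝓓.support := fun h => by
    obtain ⟨z, hz, hzD⟩ := IdealSh.exists_generization 𝓓 hD h
    exact hzD ((hz.antisymm (hsp z)).eq ▸ h)
  have ha : Function.Bijective (RefHull.stalkMapₗ a η) := bijective_of_surjective bF bF' _ fun u => by
    haveI := subsingleton_stalk_push 𝓓 G hη
    exact (stalk_exact_right a b w hex hb η).2 u (Subsingleton.elim _ _)
  let bF2 := bF.map (LinearEquiv.ofBijective _ ha)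
  let s₁ := sη Φ bF
  let s₂ := sη Φ' fun i => RefHull.stalkMapₗ a η (bF i)
  have hs₁ : s₁ ≠ 0 := fun h => wη_ne_zero Φ bF ((bijective_bidual_η L hcL).1 (h.trans (map_zero _).symm))
  have hs₂ : s₂ ≠ 0 := fun h => by
    refine wη_ne_zero Φ' bF2 ((bijective_bidual_η L' hcL').1 ?_)
    rw [map_zero, show ⇑bF2 = fun i => RefHull.stalkMapₗ a η (bF i) from funext fun i => bF.map_apply _ i]
    exact h
  have hdiff : ∀ y : X, Order.coheight y = 1 →
      (y ≠ IdealSh.gen 𝓓 → ordS (RefHull.ddual L') y s₂ = ordS (RefHull.ddual L) y s₁) := by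
    intro y hy hne
    haveI := subsingleton_stalk_push 𝓓 G (fun h => hne (IdealSh.eq_gen 𝓓 hD h hy.le))
    obtain ⟨k, hk, h⟩ := exists_local_pow (s := 0) hX hF hF' Φ Φ' a b w hex hb bF ha hy
      (fun _ _ _ => Subsingleton.elim _ _) Fin.elim0 (fun h => ⟨Fin.elim0, Subsingleton.elim _ _⟩)
    obtain rfl : k = 0 := by omega
    simpa using h
  have hy₀ : Order.coheight (IdealSh.gen 𝓓) = 1 := by
    refine le_antisymm (IdealSh.coheight_gen_le 𝓓 hD) ?_
    obtain ⟨z, hz, hzD⟩ := IdealSh.exists_generization 𝓓 hD (IdealSh.gen_mem 𝓓)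
    exact le_trans le_add_self (Order.coheight_add_one_le
      (IdealSh.ne_generization hz fun e => hzD (e ▸ IdealSh.gen_mem 𝓓)))
  obtain ⟨t, ht⟩ := exists_span_push 𝓓 G hG (IdealSh.gen_mem 𝓓)
  obtain ⟨k, hk, hord₀⟩ := exists_local_pow hX hF hF' Φ Φ' a b w hex hb bF ha hy₀
    (fun c hc h => smul_eq_zero_of_mem_stalkIdeal 𝓓 G (by rwa [IdealSh.stalkIdeal_gen]) h) t ht
  refine ⟨k, hk, ?_⟩
  obtain ⟨hiP, w', hw', hordw⟩ := exists_pow_sec hX 𝓓 hD hreg hdim k
  obtain ⟨v, hv, hordv⟩ := exists_tensor_sec hX hiL hiP hs₁ hw'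
  refine iso_of_ordS_eq hX (isRef1_ddual L' hcL' hrL')
    (isRef1_of_isInvertible (AmpleLib.isInvertible_tensorMod hiL hiP)) hs₂ hv fun y hy => ?_
  rw [hordv y hy]
  by_cases hyD : y = IdealSh.gen 𝓓
  · rw [(hordw y hy).1 hyD]
    subst hyD
    exact hord₀
  · rw [(hordw y hy).2 hyD, add_zero]
    exact hdiff y hy hyD

end Groth.Agent.ExtPowSt

end
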