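import Groth.Agent.ExtFilt.Sheaf
import Groth.Agent.ExtPowSt.Exists
import Groth.Agent.PullStalk.Basic
import Groth.Agent.QCoh.Pullback
import Groth.Agent.DeRham.ExtBaseChange

/-!
# Exterior powers commute with pullback
-/

set_option autoImplicit false
set_option linter.style.haveILetI false

universe u

open CategoryTheory AlgebraicGeometry TopologicalSpace Opposite TensorProduct

noncomputable section

namespace Groth.Agent.ExtPowSt.Pullback

open Groth.Agent.PullStalk.Sky Groth.Agent.PullStalk.Exact Groth.Agent.PullStalk.Basic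
  Groth.Agent.Omega.Stalks Groth.Agent.QCoh Groth.Agent.ExtPowSt Groth.Agent.ExtFilt.Stalkwise
  Groth.Agent.ExtFilt.Sheaf

section Alg

variable {A B M N : Type u} [CommRing A] [CommRing B] [Algebra A B] [AddCommGroup M] [Module A M]
  [AddCommGroup N] [Module A N] [Module B N] [IsScalarTower A B N]

/-- The exterior power of a base change is a base change. -/
theorem isBaseChange_mapAlg (r : ℕ) {f : M →ₗ[A] N} (h : IsBaseChange B f) :
    IsBaseChange B (DeRham.Basic.mapAlg (B := B) r f) := by
  refine IsBaseChange.of_equiv ((DeRham.ExtBaseChange.equiv A B M r).trans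
    (LinearEquiv.ofBijective (exteriorPower.map r h.equiv.toLinearMap)
      (Function.bijective_iff_has_inverse.mpr
        ⟨exteriorPower.map r h.equiv.symm.toLinearMap, fun z => ?_, fun z => ?_⟩))) fun z => ?_
  · rw [← LinearMap.comp_apply, ← exteriorPower.map_comp, LinearEquiv.symm_comp, exteriorPower.map_id,
      LinearMap.id_apply]
  · rw [← LinearMap.comp_apply, ← exteriorPower.map_comp, LinearEquiv.comp_symm, exteriorPower.map_id,
      LinearMap.id_apply]
  · have : (((exteriorPower.map r h.equiv.toLinearMap).comp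
        (DeRham.ExtBaseChange.cmp A B M r)).restrictScalars A).comp (TensorProduct.mk A B _ 1) =
          DeRham.Basic.mapAlg (B := B) r f := by
      refine ext_ι (h := RingHom.id A) r fun m => ?_
      show exteriorPower.map r h.equiv.toLinearMap
        (DeRham.ExtBaseChange.cmp A B M r (1 ⊗ₜ exteriorPower.ιMulti A r m)) = _
      rw [DeRham.ExtBaseChange.cmp_tmul_ιMulti, one_smul, exteriorPower.map_apply_ιMulti,
        DeRham.Basic.mapAlg_ιMulti]
      congr 1
      funext i
      exact (h.equiv_tmul 1 (m i)).trans (one_smul _ _)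
    exact LinearMap.congr_fun this z

end Alg

variable {X P : Scheme.{u}} (g : X ⟶ P)

set_option maxHeartbeats 1600000 in
/-- The stalk identification of the pullback of an exterior power. -/
theorem exists_pullEquiv {i : ℕ} {E L : P.Modules} [E.IsQuasicoherent] (Φ : Sys i E L) (x : X) :
    ∃ e : ((Scheme.Modules.pullback g).obj L).presheaf.stalk x ≃ₗ[X.presheaf.stalk x]
        ↥(⋀[X.presheaf.stalk x]^i (((Scheme.Modules.pullback g).obj E).presheaf.stalk x)),
      ∀ v : Fin i → E.presheaf.stalk (g x),
        e (unitStalkHom g L x ((stalkEquiv Φ (g x)).symm (exteriorPower.ιMulti _ i v))) =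
          exteriorPower.ιMulti _ i fun k => unitStalkHom g E x (v k) := by
  letI := (g.stalkMap x).hom.toAlgebra
  letI := moduleOver g E x
  letI := moduleOver g L x
  haveI : IsScalarTower (P.presheaf.stalk (g x)) (X.presheaf.stalk x)
      (((Scheme.Modules.pullback g).obj E).presheaf.stalk x) :=
    IsScalarTower.of_algebraMap_smul fun _ _ => rfl
  haveI : IsScalarTower (P.presheaf.stalk (g x)) (X.presheaf.stalk x)
      (((Scheme.Modules.pullback g).obj L).presheaf.stalk x) :=
    IsScalarTower.of_algebraMap_smul fun _ _ => rfl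
  have h0 := isBaseChange_unitStalk g L x
  have h1 := (IsBaseChange.ofEquiv (stalkEquiv Φ (g x))).comp
    (isBaseChange_mapAlg i (isBaseChange_unitStalk g E x))
  refine ⟨h0.equiv.symm.trans h1.equiv, fun v => ?_⟩
  rw [LinearEquiv.trans_apply]
  erw [h0.equiv_symm_apply]
  rw [h1.equiv_tmul, one_smul]
  change DeRham.Basic.mapAlg i (unitStalk g E x) (stalkEquiv Φ (g x) ((stalkEquiv Φ (g x)).symm _)) = _
  rw [LinearEquiv.apply_symm_apply, DeRham.Basic.mapAlg_ιMulti]
  rfl

/-- The zeroth exterior power. -/
theorem isExtPow_zero {X : Scheme.{u}} (E : X.Modules) : ExtPow.IsExtPow 0 E (Coh.structureModule X) :=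
  ⟨fun U => (exteriorPower.zeroEquiv Γ(X, U.1) (E.val.obj (op U.1))).symm, fun U V h e => by
    change X.presheaf.map (homOfLE h).op (exteriorPower.zeroEquiv Γ(X, U.1) (E.val.obj (op U.1))
      (exteriorPower.ιMulti Γ(X, U.1) 0 e)) = _
    rw [exteriorPower.zeroEquiv_ιMulti]
    exact (map_one (X.presheaf.map (homOfLE h).op).hom).trans
      (exteriorPower.zeroEquiv_ιMulti (R := Γ(X, V.1)) (M := E.val.obj (op V.1))
        fun j => E.val.map (homOfLE h).op (e j)).symm⟩

/-- Exterior powers transport along an isomorphism of the power. -/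
theorem isExtPow_of_iso {X : Scheme.{u}} {i : ℕ} {E L L' : X.Modules} (e : L ≅ L')
    (h : ExtPow.IsExtPow i E L) : ExtPow.IsExtPow i E L' := by
  obtain ⟨φ, hφ⟩ := h
  let ε : ∀ U : X.Opens, (L.val.obj (op U)) ≃ₗ[Γ(X, U)] (L'.val.obj (op U)) := fun U =>
    { toFun := fun x => e.hom.app U x
      invFun := fun x => e.inv.app U x
      left_inv := fun x =>
        (ConcreteCategory.congr_hom (congrArg (fun f => Scheme.Modules.Hom.app f U) e.hom_inv_id) x :)
      right_inv := fun x =>
        (ConcreteCategory.congr_hom (congrArg (fun f => Scheme.Modules.Hom.app f U) e.inv_hom_id) x :)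
      map_add' := fun a b => map_add (e.hom.app U).hom a b
      map_smul' := fun r x => Scheme.Modules.Hom.app_smul e.hom r x }
  refine ⟨fun U => (ε U.1).symm.trans (φ U), fun U V hle v => ?_⟩
  show res L' hle (e.hom.app U.1 ((φ U).symm (exteriorPower.ιMulti _ i v))) = e.hom.app V.1 _
  exact (app_res e.hom hle _).symm.trans (congrArg (fun y => e.hom.app V.1 y) (hφ U V hle v))

/-- Exterior powers transport along an isomorphism of the module. -/
theorem isExtPow_of_iso_left {X : Scheme.{u}} {i : ℕ} {E E' L : X.Modules} (e : E ≅ E')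
    (h : ExtPow.IsExtPow i E L) : ExtPow.IsExtPow i E' L := by
  obtain ⟨φ, hφ⟩ := h
  let ε : ∀ U : X.Opens, (E.val.obj (op U)) ≃ₗ[Γ(X, U)] (E'.val.obj (op U)) := fun U =>
    { toFun := fun x => e.hom.app U x
      invFun := fun x => e.inv.app U x
      left_inv := fun x =>
        (ConcreteCategory.congr_hom (congrArg (fun f => Scheme.Modules.Hom.app f U) e.hom_inv_id) x :)
      right_inv := fun x =>
        (ConcreteCategory.congr_hom (congrArg (fun f => Scheme.Modules.Hom.app f U) e.inv_hom_id) x :)
      map_add' := fun a b => map_add (e.hom.app U).hom a b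
      map_smul' := fun r x => Scheme.Modules.Hom.app_smul e.hom r x }
  let w : ∀ U : X.Opens, ↥(⋀[Γ(X, U)]^i (E.val.obj (op U))) ≃ₗ[Γ(X, U)] ↥(⋀[Γ(X, U)]^i (E'.val.obj (op U))) :=
    fun U => LinearEquiv.ofLinearMap (exteriorPower.map i (ε U).toLinearMap)
    (exteriorPower.map i (ε U).symm.toLinearMap)
    (by rw [← exteriorPower.map_comp, LinearEquiv.comp_symm, exteriorPower.map_id])
    (by rw [← exteriorPower.map_comp, LinearEquiv.symm_comp, exteriorPower.map_id])
  have hw : ∀ (U : X.affineOpens) (v : Fin i → E'.val.obj (op U.1)), ((φ U).trans (w U.1)).symm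
      (exteriorPower.ιMulti _ i v) = (φ U).symm (exteriorPower.ιMulti _ i fun k => (ε U.1).symm (v k)) :=
    fun U v => congrArg (φ U).symm (exteriorPower.map_apply_ιMulti _ _)
  refine ⟨fun U => (φ U).trans (w U.1), fun U V hle v => ?_⟩
  refine (congrArg (L.val.map (homOfLE hle).op) (hw U v)).trans
    ((hφ U V hle _).trans (((hw V _).trans (congrArg _ (congrArg _ (funext fun k => ?_)))).symm))
  exact app_res e.inv hle (v k)

/-- The pullback of an exterior power is an exterior power of the pullback. -/
theorem isExtPow_pullback {i : ℕ} {E L : P.Modules} [E.IsQuasicoherent] (hL : ExtPow.IsExtPow i E L) :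
    ExtPow.IsExtPow i ((Scheme.Modules.pullback g).obj E) ((Scheme.Modules.pullback g).obj L) := by
  let Φ : Sys i E L := ⟨hL.choose, hL.choose_spec⟩
  haveI := QCoh.isQuasicoherent_pullback g E
  obtain ⟨L', hL'⟩ := Exists.exists_isExtPow i ((Scheme.Modules.pullback g).obj E)
  let Φ' : Sys i _ L' := ⟨hL'.choose, hL'.choose_spec⟩
  choose e he using exists_pullEquiv g Φ
  let φ := fun x => ((e x).trans (stalkEquiv Φ' x).symm).toLinearMap
  have hloc : ∀ x t, Loc φ x t := by
    intro x t
    letI := (g.stalkMap x).hom.toAlgebra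
    letI := moduleOver g L x
    haveI : IsScalarTower (P.presheaf.stalk (g x)) (X.presheaf.stalk x)
        (((Scheme.Modules.pullback g).obj L).presheaf.stalk x) :=
      IsScalarTower.of_algebraMap_smul fun _ _ => rfl
    induction t using (isBaseChange_unitStalk g L x).inductionOn with
    | zero => exact loc_zero x
    | smul s n hn => exact loc_smul s hn
    | add p q hp hq => exact loc_add hp hq
    | tmul m =>
      rw [← (stalkEquiv Φ (g x)).symm_apply_apply m]
      generalize stalkEquiv Φ (g x) m = z
      have hz : z ∈ Submodule.span (P.presheaf.stalk (g x))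
          (Set.range (exteriorPower.ιMulti (P.presheaf.stalk (g x)) i (M := E.presheaf.stalk (g x)))) := by
        rw [exteriorPower.ιMulti_span]; trivial
      induction hz using Submodule.span_induction with
      | zero =>
        rw [map_zero, map_zero]
        exact loc_zero x
      | add p q _ _ hp hq =>
        rw [map_add, map_add]
        exact loc_add hp hq
      | smul c p _ hp =>
        rw [LinearEquiv.map_smul, map_smul, ← IsScalarTower.algebraMap_smul (X.presheaf.stalk x) c]
        exact loc_smul _ hp
      | mem z hz =>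
        obtain ⟨v, rfl⟩ := hz
        obtain ⟨U, hxU, -, s, hs⟩ := exists_lifts E (g x) v ⊤ trivial
        obtain ⟨T, hT, hxT, hle⟩ :=
          exists_isAffineOpen_mem_and_subset (X := X) (x := x) (U := g ⁻¹ᵁ U.1) hxU
        have hTU : T ≤ g ⁻¹ᵁ U.1 := hle
        let η := fun M : P.Modules => ((Scheme.Modules.pullbackPushforwardAdjunction g).unit.app M).app U.1
        refine ⟨T, hxT, res _ hTU (η L (wsec Φ U s)),
          wsec Φ' ⟨T, hT⟩ (fun k => res _ hTU (η E (s k))), ?_, fun y hy => ?_⟩
        · refine (germM_res' _ hTU x hxT _).trans ((unitStalkHom_germ g L x U.1 hxU _).symm.trans ?_)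
          refine congrArg (unitStalkHom g L x) ((LinearEquiv.eq_symm_apply _).2 ?_)
          rw [equiv_wedge]
          exact congrArg _ (funext hs)
        · refine (stalkEquiv Φ' y).injective ?_
          simp only [φ, LinearEquiv.coe_coe, LinearEquiv.trans_apply, LinearEquiv.apply_symm_apply]
          refine Eq.trans ?_ (equiv_wedge Φ' ⟨T, hT⟩ y hy _).symm
          refine (congrArg (e y) ((germM_res' _ hTU y hy _).trans
            ((unitStalkHom_germ g L y U.1 (hTU hy) _).symm.trans (congrArg (unitStalkHom g L y)
              ((LinearEquiv.eq_symm_apply _).2 (equiv_wedge Φ U (g y) (hTU hy) s)))))).trans ?_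
          rw [he]
          refine congrArg _ (funext fun k => ?_)
          exact (unitStalkHom_germ g E y U.1 (hTU hy) (s k)).trans (germM_res' _ hTU y hy _).symm
  obtain ⟨f, hf⟩ := exists_hom hloc
  haveI : IsIso f := isIso_of_stalk (φ := f) fun x => by
    rw [show stalkLin f x = φ x from LinearMap.ext (hf x)]
    exact ((e x).trans (stalkEquiv Φ' x).symm).bijective
  exact isExtPow_of_iso (asIso f).symm hL'

end Groth.Agent.ExtPowSt.Pullback
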