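import Groth.Agent.DeRham.ExtBaseChange
import Mathlib.RingTheory.Localization.BaseChange

/-!
# Exterior powers along a localization
-/

universe u

open TensorProduct

noncomputable section

namespace Groth.Agent.ExtPowSt

variable {A B M N : Type u} [CommRing A] [CommRing B] [AddCommGroup M] [Module A M]
  [AddCommGroup N] [Module B N] (g : A →+* B) (r : ℕ)

/-- The semilinear map induced on exterior powers. -/
def extσ (f : M →ₛₗ[g] N) : ↥(⋀[A]^r M) →ₛₗ[g] ↥(⋀[B]^r N) :=
  letI := g.toAlgebra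
  letI : Module A N := Module.compHom N g
  haveI : IsScalarTower A B N := ⟨fun a b n => by
    show (g a * b) • n = g a • (b • n)
    exact mul_smul _ _ _⟩
  let f' : M →ₗ[A] N := { toFun := f, map_add' := f.map_add, map_smul' := fun a m => f.map_smulₛₗ a m }
  { toFun := DeRham.Basic.mapAlg (B := B) r f'
    map_add' := map_add _
    map_smul' := fun a z => by
      rw [map_smul]
      exact (algebraMap_smul B a _).symm }

@[simp] lemma extσ_ιMulti (f : M →ₛₗ[g] N) (m : Fin r → M) :
    extσ g r f (exteriorPower.ιMulti A r m) = exteriorPower.ιMulti B r fun i => f (m i) :=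
  letI := g.toAlgebra
  letI : Module A N := Module.compHom N g
  haveI : IsScalarTower A B N := ⟨fun a b n => by
    show (g a * b) • n = g a • (b • n)
    exact mul_smul _ _ _⟩
  DeRham.Basic.mapAlg_ιMulti r _ m

/-- Induction along decomposable elements. -/
lemma ext_ι {C : Type u} {P : Type u} [CommRing C] [AddCommGroup P] [Module C P] {h : A →+* C}
    {φ ψ : ↥(⋀[A]^r M) →ₛₗ[h] P}
    (H : ∀ m : Fin r → M, φ (exteriorPower.ιMulti A r m) = ψ (exteriorPower.ιMulti A r m)) : φ = ψ := by
  refine LinearMap.ext fun z => ?_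
  have hz : z ∈ Submodule.span A (Set.range (exteriorPower.ιMulti A r (M := M))) := by
    rw [exteriorPower.ιMulti_span A r M]; trivial
  induction hz using Submodule.span_induction with
  | mem x hx => obtain ⟨m, rfl⟩ := hx; exact H m
  | zero => rw [map_zero, map_zero]
  | add a b _ _ ha hb => rw [map_add, map_add, ha, hb]
  | smul a x _ hx => rw [φ.map_smulₛₗ, ψ.map_smulₛₗ, hx]

variable (S : Submonoid A) (f : M →ₛₗ[g] N)

/-- The exterior power of a localization is a localization. -/
theorem extσ_localization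
    (hB : letI := g.toAlgebra; IsLocalization S B)
    (hsurj : ∀ n : N, ∃ s ∈ S, ∃ m, f m = g s • n)
    (hker : ∀ m, f m = 0 → ∃ s ∈ S, s • m = 0) :
    (∀ w : ↥(⋀[B]^r N), ∃ s ∈ S, ∃ z, extσ g r f z = g s • w) ∧
      ∀ z, extσ g r f z = 0 → ∃ s ∈ S, s • z = 0 := by
  letI := g.toAlgebra
  haveI := hB
  letI : Module A N := Module.compHom N g
  haveI : IsScalarTower A B N := ⟨fun a b n => by
    show (g a * b) • n = g a • (b • n)
    exact mul_smul _ _ _⟩
  let f' : M →ₗ[A] N := { toFun := f, map_add' := f.map_add, map_smul' := fun a m => f.map_smulₛₗ a m }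
  haveI : IsLocalizedModule S f' := by
    refine ⟨fun s => ?_, fun n => ?_, fun {m m'} h => ?_⟩
    · obtain ⟨u, hu⟩ := IsLocalization.map_units B s
      rw [Module.End.isUnit_iff]
      refine ⟨fun a b h => ?_, fun n => ⟨(u⁻¹ : Bˣ).1 • n, ?_⟩⟩
      · have h' : (u : B) • a = (u : B) • b := by rw [hu]; exact h
        exact (Units.isUnit u).smul_left_cancel.mp h'
      · show g s.1 • ((u⁻¹ : Bˣ).1 • n) = n
        rw [smul_smul, show g s.1 = (u : B) from hu.symm, Units.mul_inv, one_smul]
    · obtain ⟨s, hs, m, hm⟩ := hsurj n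
      exact ⟨(m, ⟨s, hs⟩), hm.symm⟩
    · obtain ⟨s, hs, h0⟩ := hker (m - m') (by rw [map_sub]; exact sub_eq_zero.mpr h)
      exact ⟨⟨s, hs⟩, sub_eq_zero.mp (by rw [← smul_sub]; exact h0)⟩
  have hbc : IsBaseChange B f' := (isLocalizedModule_iff_isBaseChange S B f').mp inferInstance
  let E : B ⊗[A] ↥(⋀[A]^r M) →ₗ[B] ↥(⋀[B]^r N) :=
    (exteriorPower.map r hbc.equiv.toLinearMap).comp (DeRham.ExtBaseChange.cmp A B M r)
  have hE : ∀ z, E (1 ⊗ₜ z) = extσ g r f z := by
    intro z
    have : ((E.restrictScalars A).comp (TensorProduct.mk A B _ 1) : _ →ₗ[A] _) = DeRham.Basic.mapAlg (B := B) r f' := by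
      refine ext_ι (h := RingHom.id A) r fun m => ?_
      show exteriorPower.map r hbc.equiv.toLinearMap (DeRham.ExtBaseChange.cmp A B M r (1 ⊗ₜ exteriorPower.ιMulti A r m)) = _
      rw [DeRham.ExtBaseChange.cmp_tmul_ιMulti, one_smul, exteriorPower.map_apply_ιMulti, DeRham.Basic.mapAlg_ιMulti]
      congr 1
      funext i
      exact (hbc.equiv_tmul 1 (m i)).trans (one_smul _ _)
    exact LinearMap.congr_fun this z
  have hEb : Function.Bijective E := by
    show Function.Bijective (exteriorPower.map r hbc.equiv.toLinearMap ∘ DeRham.ExtBaseChange.cmp A B M r)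
    refine Function.Bijective.comp ?_ ⟨DeRham.ExtBaseChange.cmp_injective A B M r, DeRham.ExtBaseChange.cmp_surjective A B M r⟩
    refine Function.bijective_iff_has_inverse.mpr ⟨exteriorPower.map r hbc.equiv.symm.toLinearMap, fun z => ?_, fun z => ?_⟩
    · rw [← LinearMap.comp_apply, ← exteriorPower.map_comp, LinearEquiv.symm_comp, exteriorPower.map_id, LinearMap.id_apply]
    · rw [← LinearMap.comp_apply, ← exteriorPower.map_comp, LinearEquiv.comp_symm, exteriorPower.map_id, LinearMap.id_apply]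
  refine ⟨fun w => ?_, fun z hz => ?_⟩
  · obtain ⟨t, rfl⟩ := hEb.2 w
    obtain ⟨⟨z, s⟩, hzs⟩ := IsLocalizedModule.surj S (TensorProduct.mk A B ↥(⋀[A]^r M) 1) t
    refine ⟨s.1, s.2, z, ?_⟩
    rw [← hE, ← map_smul]
    refine congrArg E ?_
    refine hzs.symm.trans ?_
    exact (algebraMap_smul B s.1 t).symm
  · obtain ⟨s, hs⟩ := (IsLocalizedModule.eq_zero_iff S (TensorProduct.mk A B ↥(⋀[A]^r M) 1)).mp
      (hEb.1 ((hE z).trans hz |>.trans (map_zero E).symm))
    exact ⟨s.1, s.2, hs⟩

end Groth.Agent.ExtPowSt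

end
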