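import Groth.Agent.ExtPowSt.Stalk
import Groth.Agent.ExtPowSt.Det
import Groth.Agent.Ref1.Class
import Groth.Agent.Ref1.Hull
import Mathlib.LinearAlgebra.FreeModule.PID

/-!
# Lattices at points of codimension one
-/

universe u

open CategoryTheory AlgebraicGeometry Opposite TopologicalSpace

noncomputable section

namespace Groth.Agent.ExtPowSt

open Groth.Agent.HomShQC Groth.Agent.PullStalk.Sky Groth.Agent.QCoh Groth.Agent.Ref1

variable {X : Scheme.{u}} [IsIntegral X]

local notation "η" => genericPoint X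

/-- The kernel of the map to the generic stalk is torsion. -/
lemma exists_smul_eq_zero (F : X.Modules) [F.IsQuasicoherent] {x : X} {v : F.presheaf.stalk x}
    (hv : toη F x v = 0) : ∃ c : X.presheaf.stalk x, c ≠ 0 ∧ c • v = 0 := by
  obtain ⟨_, ⟨U, hU, rfl⟩, hxU, -⟩ :=
    X.isBasis_affineOpens.exists_subset_of_mem_open (Set.mem_univ x) isOpen_univ
  replace hU : IsAffineOpen U := hU
  letI := Props.QStalk.moduleSections F hxU
  haveI := Props.QStalk.isLocalizedModule_germLin F hxU hU
  obtain ⟨⟨m, c⟩, hmc⟩ := IsLocalizedModule.surj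
    (hU.primeIdealOf ⟨x, hxU⟩).asIdeal.primeCompl (Props.QStalk.germLin F hxU) v
  have hη : η ∈ U := (hsp x).mem_open U.2 hxU
  have h0 : germM F U η hη m = 0 := by
    have h2 : sp F (hsp x) (X.presheaf.germ U x hxU c.1 • v) = sp F (hsp x) (germM F U x hxU m) :=
      congrArg _ hmc
    rw [sp_smul, show sp F (hsp x) v = 0 from hv, smul_zero, sp_germ] at h2
    exact h2.symm
  letI := Props.QStalk.moduleSections F hη
  haveI := Props.QStalk.isLocalizedModule_germLin F hη hU
  obtain ⟨d, hd⟩ := (IsLocalizedModule.eq_zero_iff (hU.primeIdealOf ⟨η, hη⟩).asIdeal.primeCompl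
    (Props.QStalk.germLin F hη)).mp h0
  have hd0 : X.presheaf.germ U x hxU d.1 ≠ 0 :=
    germ_ne_zero hxU fun h => d.2 (h ▸ Submodule.zero_mem _)
  have hc0 : X.presheaf.germ U x hxU c.1 ≠ 0 :=
    germ_ne_zero hxU fun h => c.2 (h ▸ Submodule.zero_mem _)
  refine ⟨X.presheaf.germ U x hxU d.1 * X.presheaf.germ U x hxU c.1, mul_ne_zero hd0 hc0, ?_⟩
  rw [mul_smul]
  have h3 : X.presheaf.germ U x hxU c.1 • v = germM F U x hxU m := hmc
  rw [h3, ← germM_smul]
  refine (congrArg (germM F U x hxU) hd).trans ?_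
  exact map_zero _

variable [IsLocallyNoetherian X]

/-- A coherent module has a lattice at a point with valuation ring. -/
theorem exists_lattice (F : X.Modules) (hF : Coh.IsCoh F) (y : X) [IsDiscreteValuationRing (X.presheaf.stalk y)]
    {r : ℕ} (b : Module.Basis (Fin r) (X.presheaf.stalk η) (F.presheaf.stalk η)) :
    ∃ (e : Fin r → F.presheaf.stalk y) (ε : Module.Basis (Fin r) (X.presheaf.stalk η) (F.presheaf.stalk η)),
      (∀ i, ε i = toη F y (e i)) ∧
      ∀ v, ∃ a : Fin r → X.presheaf.stalk y, toη F y v = ∑ i, toK y (a i) • ε i := by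
  classical
  haveI := hF.1
  haveI := finite_stalk F hF.2 y
  let A := X.presheaf.stalk y
  let Q := F.presheaf.stalk y ⧸ Submodule.torsion A (F.presheaf.stalk y)
  haveI : Module.Free A Q := Module.free_of_finite_type_torsion_free'
  let β := Module.Free.chooseBasis A Q
  let I := Module.Free.ChooseBasisIndex A Q
  haveI : Fintype I := Module.Free.ChooseBasisIndex.fintype A Q
  choose e he using fun i => Submodule.Quotient.mk_surjective _ (β i)
  have htor : ∀ t ∈ Submodule.torsion A (F.presheaf.stalk y), toη F y t = 0 := by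
    intro t ht
    obtain ⟨c, hc⟩ := (Submodule.mem_torsion_iff t).mp ht
    have h1 : toη F y (c.1 • t) = 0 := by
      rw [show c.1 • t = 0 from hc, map_zero]
    rw [toη, sp_smul] at h1
    exact (isUnit_of_ne_zero (toK_ne_zero (nonZeroDivisors.ne_zero c.2))).smul_eq_zero.mp h1
  have hspan : ∀ v, ∃ a : I → A, toη F y v = ∑ i, toK y (a i) • toη F y (e i) := by
    intro v
    refine ⟨β.repr (Submodule.Quotient.mk v), ?_⟩
    have h1 : v - ∑ i, β.repr (Submodule.Quotient.mk v) i • e i ∈ Submodule.torsion A (F.presheaf.stalk y) := by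
      rw [← Submodule.Quotient.mk_eq_zero, Submodule.Quotient.mk_sub, ← Submodule.mkQ_apply _ (∑ i, _), map_sum]
      simp only [map_smul, Submodule.mkQ_apply, he, β.sum_repr, sub_self]
    have h2 := htor _ h1
    rw [map_sub, sub_eq_zero, map_sum] at h2
    exact h2.trans (Finset.sum_congr rfl fun i _ => sp_smul F (hsp y) _ _)
  have hli : LinearIndependent (X.presheaf.stalk η) fun i => toη F y (e i) := by
    rw [Fintype.linearIndependent_iff]
    intro g hg i
    have hfr : IsFractionRing (X.presheaf.stalk y) X.functionField := inferInstance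
    letI : Algebra A (X.presheaf.stalk η) := (toK y).toAlgebra
    haveI : IsFractionRing A (X.presheaf.stalk η) := hfr
    obtain ⟨c, hc⟩ := IsLocalization.exist_integer_multiples_of_finite (nonZeroDivisors A) g
    choose a ha using hc
    have ha' : ∀ i, toK y (a i) = toK y c.1 * g i := fun i => ha i
    have h1 : toη F y (∑ i, a i • e i) = 0 := by
      rw [map_sum]
      refine (Finset.sum_congr rfl fun i _ => (sp_smul F (hsp y) _ _).trans ?_).trans
        ((Finset.smul_sum (r := toK y c.1) (f := fun i => g i • toη F y (e i)) (s := Finset.univ)).symm.trans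
          (by rw [hg, smul_zero]))
      show toK y (a i) • toη F y (e i) = toK y c.1 • g i • toη F y (e i)
      rw [ha', mul_smul]
    obtain ⟨d, hd, h2⟩ := exists_smul_eq_zero F h1
    have h3 : d * a i = 0 := by
      have h4 := congrArg (fun t => (Submodule.Quotient.mk t : Q)) h2
      simp only [← Submodule.mkQ_apply, map_smul, map_sum, map_zero] at h4
      simp only [Submodule.mkQ_apply, he, Finset.smul_sum, smul_smul] at h4
      exact Fintype.linearIndependent_iff.mp β.linearIndependent (fun j => d * a j) h4 i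
    have h5 : toK y c.1 * g i = 0 := by
      rw [← ha', (mul_eq_zero.mp h3).resolve_left hd, map_zero]
    exact (mul_eq_zero.mp h5).resolve_left (toK_ne_zero (nonZeroDivisors.ne_zero c.2))
  have hsp' : ⊤ ≤ Submodule.span (X.presheaf.stalk η) (Set.range fun i => toη F y (e i)) := by
    intro w _
    obtain ⟨c, v, hc, hv⟩ := exists_smul_eq_toη F y w
    obtain ⟨a, ha⟩ := hspan v
    obtain ⟨u, hu⟩ := isUnit_of_ne_zero (toK_ne_zero hc)
    rw [show w = (u⁻¹ : (X.presheaf.stalk η)ˣ).1 • toη F y v by rw [hv, ← hu, smul_smul, Units.inv_mul, one_smul], ha]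
    exact Submodule.smul_mem _ _ (Submodule.sum_mem _ fun i _ =>
      Submodule.smul_mem _ _ (Submodule.subset_span ⟨i, rfl⟩))
  let ε₀ : Module.Basis I (X.presheaf.stalk η) (F.presheaf.stalk η) := Module.Basis.mk hli hsp'
  let σ := ε₀.indexEquiv b
  refine ⟨fun i => e (σ.symm i), ε₀.reindex σ, fun i => ?_, fun v => ?_⟩
  · rw [Module.Basis.reindex_apply, Module.Basis.coe_mk]
  · obtain ⟨a, ha⟩ := hspan v
    refine ⟨fun i => a (σ.symm i), ha.trans (Fintype.sum_equiv σ _ _ fun i => ?_)⟩
    rw [Module.Basis.reindex_apply, Equiv.symm_apply_apply, Module.Basis.coe_mk]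
    show _ = toK y (a (σ.symm (σ i))) • _
    rw [Equiv.symm_apply_apply]

variable {r : ℕ} {F L : X.Modules} [F.IsQuasicoherent] (Φ : Sys r F L)

/-- The wedge of a family of generic germs, as a germ of the exterior power. -/
def wη (v : Fin r → F.presheaf.stalk η) : L.presheaf.stalk η :=
  (stalkEquiv Φ η).symm (exteriorPower.ιMulti (X.presheaf.stalk η) r v)

omit [IsLocallyNoetherian X] in
include Φ in
lemma isRankOne_extPow (b : Module.Basis (Fin r) (X.presheaf.stalk η) (F.presheaf.stalk η)) : IsRankOne L :=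
  ⟨(LinearEquiv.ofBijective _ (bijective_smul_ιMulti b)).trans (stalkEquiv Φ η).symm⟩

omit [IsLocallyNoetherian X] in
lemma wη_ne_zero (b : Module.Basis (Fin r) (X.presheaf.stalk η) (F.presheaf.stalk η)) : wη Φ b ≠ 0 := fun h =>
  one_ne_zero (α := X.presheaf.stalk η) ((det_ιMulti b).symm.trans (by
    rw [show exteriorPower.ιMulti (X.presheaf.stalk η) r b = 0 from
      ((stalkEquiv Φ η).symm.injective (h.trans (map_zero _).symm)), map_zero]))

omit [IsLocallyNoetherian X] in
lemma wη_eq_det (ε : Module.Basis (Fin r) (X.presheaf.stalk η) (F.presheaf.stalk η))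
    (v : Fin r → F.presheaf.stalk η) : wη Φ v = ε.det v • wη Φ ε := by
  rw [wη, wη, ← map_smul, ← ιMulti_eq_det_smul]

/-- The image of a wedge of generic germs in the reflexive hull. -/
def sη (v : Fin r → F.presheaf.stalk η) : (RefHull.ddual L).presheaf.stalk η :=
  RefHull.stalkMapₗ (RefHull.bidualMap L) η (wη Φ v)

/-- The order of a wedge at a point with valuation ring. -/
theorem ordS_sη (hF : Coh.IsCoh F) {y : X} (hy : Order.coheight y = 1)
    [IsDiscreteValuationRing (X.presheaf.stalk y)]
    (e : Fin r → F.presheaf.stalk y) (ε : Module.Basis (Fin r) (X.presheaf.stalk η) (F.presheaf.stalk η))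
    (hε : ∀ i, ε i = toη F y (e i))
    (hspan : ∀ v, ∃ a : Fin r → X.presheaf.stalk y, toη F y v = ∑ i, toK y (a i) • ε i)
    {φ : X.presheaf.stalk η} (hφ : φ ≠ 0) :
    ordS (RefHull.ddual L) y (φ • sη Φ ε) = Scheme.ord φ y := by
  classical
  have hL : Coh.IsCoh L := isCoh Φ hF
  have hR := isRef1_ddual L hL (isRankOne_extPow Φ ε)
  let v₀ : L.presheaf.stalk y := (stalkEquiv Φ y).symm (exteriorPower.ιMulti (X.presheaf.stalk y) r e)
  have hv₀ : toη L y v₀ = wη Φ ε := by
    refine (stalkEquiv Φ η).injective ?_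
    rw [toη, stalkEquiv_sp, LinearEquiv.apply_symm_apply, extσ_ιMulti, wη, LinearEquiv.apply_symm_apply]
    congr 1
    funext i
    exact (hε i).symm
  have hgen : ∀ v : L.presheaf.stalk y, ∃ c : X.presheaf.stalk y, toη L y v = toK y c • wη Φ ε := by
    intro v
    obtain ⟨z, rfl⟩ := (stalkEquiv Φ y).symm.surjective v
    have hz : z ∈ Submodule.span (X.presheaf.stalk y)
        (Set.range (exteriorPower.ιMulti (X.presheaf.stalk y) r (M := F.presheaf.stalk y))) := by
      rw [exteriorPower.ιMulti_span]; trivial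
    induction hz using Submodule.span_induction with
    | mem x hx =>
      obtain ⟨u, rfl⟩ := hx
      choose a ha using fun i => hspan (u i)
      refine ⟨(Matrix.of fun i j => a j i).det, (stalkEquiv Φ η).injective ?_⟩
      rw [toη, stalkEquiv_sp, LinearEquiv.apply_symm_apply, extσ_ιMulti, map_smul, wη,
        LinearEquiv.apply_symm_apply, ιMulti_eq_det_smul ε, Module.Basis.det_apply, RingHom.map_det]
      congr 2
      ext i j
      rw [Module.Basis.toMatrix_apply, RingHom.mapMatrix_apply, Matrix.map_apply, Matrix.of_apply,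
        show spS F (hsp y) (u j) = _ from ha j, Module.Basis.repr_sum_self]
    | zero => exact ⟨0, by rw [map_zero, map_zero, map_zero, zero_smul]⟩
    | add a b _ _ ha hb =>
      obtain ⟨c, hc⟩ := ha
      obtain ⟨d, hd⟩ := hb
      exact ⟨c + d, by rw [map_add, map_add, hc, hd, map_add, add_smul]⟩
    | smul a x _ hx =>
      obtain ⟨c, hc⟩ := hx
      refine ⟨a * c, ?_⟩
      rw [map_smul, toη, sp_smul, show sp L (hsp y) ((stalkEquiv Φ y).symm x) = _ from hc, smul_smul, map_mul]
  have hβ : toη (RefHull.ddual L) y (RefHull.stalkMapₗ (RefHull.bidualMap L) y v₀) = sη Φ ε := by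
    rw [toη, sp_stalkMap, show sp L (hsp y) v₀ = _ from hv₀, sη]
  have hne : sη Φ ε ≠ 0 := fun h => wη_ne_zero Φ ε
    ((bijective_bidual_η L hL).1 (h.trans (map_zero _).symm))
  have hg : IsGenAt (RefHull.ddual L) y (RefHull.stalkMapₗ (RefHull.bidualMap L) y v₀) := by
    refine ⟨eq_top_iff.mpr fun u _ => ?_, by rw [hβ]; exact hne⟩
    obtain ⟨v, rfl⟩ := surjective_bidual_of_dvr L hL y u
    obtain ⟨c, hc⟩ := hgen v
    refine Submodule.mem_span_singleton.mpr ⟨c, toη_injective_of_isReflexive _ hR.1 hR.2.1 y ?_⟩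
    rw [toη, sp_smul, show sp (RefHull.ddual L) (hsp y) _ = _ from hβ, sp_stalkMap,
      show sp L (hsp y) v = _ from hc, map_smul]
    rfl
  rw [← hβ]
  exact ordS_eq (rankOne_of_isRef1 hR) hy hg hφ

end Groth.Agent.ExtPowSt

end
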